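import Cfsg.Agent.Lib.OrderType.Products

/-! Data for one factor of the order type example. -/

set_option autoImplicit false
set_option maxRecDepth 100000

namespace CfsgLib.OrderType.G10

def chunk0 : List ℕ := [18843886473536289918948220992, 5050320669195341876604998283, 17624991665624530879047544833, 2533913691144563635152024333, 13813527548486643264714989892, 15010656452641701208232861700, 6269215477107100916505674442, 11299575601487774851934732742, 19961744145695222371767183, 1339239818041433383009809225, 3752808499056322675052700492, 12594632740574884224814313733, 10137457874774504306285011200, 7564272616194210289385255433, 12651409821773354856362328450, 11395047606036907034130837825, 8726390342907480835034976975, 16268246183904103936078688325, 7488762344116879986178183425, 10080680793576015812034056583, 1238856552057454262272443342, 6212438395908630284957659725, 16329934526537421506167963842, 4954848664646227557111833100, 81650086779030655163982600, 100383422961528003228119175, 8783167424105969329285931592, 17524608399640551758310178950, 3853191765040283933087126475, 3834457847927283102248108100,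 18782198130902954486156005575, 13908999553035757584208155075]
def chunk1 : List ℕ := [16248285032362876990676296650, 2595602033777881205241299850, 8707657006725054937782600000, 7468800611645078107189150350, 13890265635922685302557377100, 2615563185319108150643691525, 15111039718625662466267287683, 6192477244367474790367027650, 1319278085569702954832535750, 4973582581759299838762611075, 10156191210956930203537388175, 17544570132112282186487452425, 15029390369754702039071880075, 11375085873565105155141804750, 12671370973314510350952960525, 18763464794720457138091869000]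
def ords0 : List OrdCert := [(1, [true], []),
  (2, [false, true], [(1, [true])]),
  (2, [false, true], [(1, [true])]),
  (2, [false, true], [(1, [true])]),
  (2, [false, true], [(1, [true])]),
  (3, [true, true], [(1, [true])]),
  (2, [false, true], [(1, [true])]),
  (2, [false, true], [(1, [true])]),
  (2, [false, true], [(1, [true])]),
  (3, [true, true], [(1, [true])]),
  (2, [false, true], [(1, [true])]),
  (2, [false, true], [(1, [true])]),
  (3, [true, true], [(1, [true])]),
  (2, [false, true], [(1, [true])]),
  (3, [true, true], [(1, [true])]),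
  (3, [true, true], [(1, [true])]),
  (3, [true, true], [(1, [true])]),
  (3, [true, true], [(1, [true])]),
  (3, [true, true], [(1, [true])]),
  (2, [false, true], [(1, [true])]),
  (2, [false, true], [(1, [true])]),
  (3, [true, true], [(1, [true])]),
  (2, [false, true], [(1, [true])]),
  (3, [true, true], [(1, [true])]),
  (3, [true, true], [(1, [true])]),
  (3, [true, true], [(1, [true])]),
  (2, [false, true], [(1, [true])]),
  (3, [true, true], [(1, [true])]),
  (3, [true, true], [(1, [true])]),
  (3, [true, true], [(1, [true])]),
  (3, [true, true], [(1, [true])]),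
  (3, [true, true], [(1, [true])])]
def ords1 : List OrdCert := [(3, [true, true], [(1, [true])]),
  (3, [true, true], [(1, [true])]),
  (3, [true, true], [(1, [true])]),
  (3, [true, true], [(1, [true])]),
  (3, [true, true], [(1, [true])]),
  (3, [true, true], [(1, [true])]),
  (2, [false, true], [(1, [true])]),
  (3, [true, true], [(1, [true])]),
  (3, [true, true], [(1, [true])]),
  (3, [true, true], [(1, [true])]),
  (3, [true, true], [(1, [true])]),
  (3, [true, true], [(1, [true])]),
  (3, [true, true], [(1, [true])]),
  (3, [true, true], [(1, [true])]),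
  (3, [true, true], [(1, [true])]),
  (3, [true, true], [(1, [true])])]
def close0 : List (List ℕ) := [[0, 0, 0, 0, 0], [0, 0, 0, 0, 0], [0, 0, 0, 0, 0], [0, 0, 0, 0, 0], [0, 0, 0, 0, 0], [0, 0, 0, 0, 0], [0, 0, 0, 0, 0], [0, 0, 0, 0, 0], [0, 0, 0, 0, 0], [0, 0, 0, 0, 0], [0, 0, 0, 0, 0], [0, 0, 0, 0, 0], [0, 0, 0, 0, 0], [0, 0, 0, 0, 0], [0, 0, 0, 0, 1], [1, 0, 0, 0, 1], [0, 1, 0, 0, 1], [1, 0, 0, 0, 1], [1, 1, 1, 1, 0], [0, 0, 0, 1, 0], [0, 0, 1, 0, 0], [0, 0, 0, 0, 1], [0, 1, 0, 0, 1], [0, 0, 0, 0, 1], [0, 0, 0, 0, 1], [1, 1, 1, 1, 0], [1, 0, 0, 0, 0], [0, 0, 0, 0, 1], [0, 1, 0, 0, 1], [1, 1, 1, 1, 0], [0, 0, 1, 0, 1], [0, 0, 1, 0, 1]]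
def close1 : List (List ℕ) := [[0, 1, 0, 1, 0], [0, 0, 0, 1, 1], [1, 0, 1, 0, 0], [0, 0, 0, 1, 1], [0, 1, 0, 1, 0], [1, 0, 1, 0, 0], [0, 0, 0, 0, 1], [1, 1, 1, 1, 0], [1, 0, 1, 1, 0], [1, 1, 1, 0, 0], [0, 1, 1, 1, 0], [1, 1, 0, 1, 0], [1, 1, 1, 1, 0], [1, 1, 1, 1, 0], [1, 1, 1, 1, 0], [1, 1, 1, 1, 1]]
def par0 : List (ℕ × ℕ) := [(0, 0), (0, 1), (0, 2), (0, 3), (0, 4), (1, 1), (1, 2), (1, 3), (1, 4), (2, 2), (2, 3), (2, 4), (3, 3), (3, 4), (4, 4), (5, 0), (5, 1), (5, 4), (6, 2), (6, 3), (6, 4), (7, 3), (8, 4), (9, 1), (9, 4), (10, 3), (10, 4), (12, 0), (12, 4), (13, 4), (14, 1), (14, 4)]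
def par1 : List (ℕ × ℕ) := [(15, 0), (15, 4), (16, 1), (16, 4), (17, 4), (19, 3), (21, 4), (23, 4), (24, 4), (27, 4), (28, 4), (30, 4), (31, 4), (33, 4), (35, 4)]

/-- The data. -/
def data : Data where
  deg := 16
  gens := [(5050320669195341876604998283, 5050320669195341876604998283), (17624991665624530879047544833, 17624991665624530879047544833), (2533913691144563635152024333, 2533913691144563635152024333), (13813527548486643264714989892, 13813527548486643264714989892), (15010656452641701208232861700, 7488762344116879986178183425)]
  elts := [chunk0, chunk1].flatten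
  chunks := [chunk0, chunk1]
  parents := [par0, par1].flatten
  ords := [ords0, ords1].flatten
  closeCert := [close0, close1].flatten

theorem data_ok : chkData data = true := by decide +kernel

theorem vec : countVec data = [1, 16, 33, 16, 48, 1, 16, 48, 16, 33, 48, 16, 48, 16, 48, 48] := by decide +kernel

theorem solv_ok : chkSolv data [[], [[0]], [[0], [1]], [[0], [1], [2]], [[2], [3], [2, 0], [3, 1]]] = true := by decide +kernel

theorem realizes : Realizes Solv [1, 16, 33, 16, 48, 1, 16, 48, 16, 33, 48, 16, 48, 16, 48, 48] :=
  vec ▸ realizes_data data_ok (solvable_of_chk solv_ok)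

end CfsgLib.OrderType.G10
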