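import Cfsg.Agent.Lib.OrderType.Products

/-! Data for one factor of the order type example. -/

set_option autoImplicit false
set_option maxRecDepth 100000

namespace CfsgLib.OrderType.G11

def chunk0 : List ℕ := [164412590478073920, 56612142254653569, 128392382337515586, 72942158760644610, 110092522030899201, 146661937354903680, 91211713778032704, 91792188204126336, 162991953860894721, 146112249136943106, 109511574084649089, 73491846978601026, 55191505637474370, 127811907911417985, 127811907911421954, 55191505637482497, 73491846978605184, 109511574084657216, 146112249136947264, 162991953860890752, 91792188204130305, 91211713778028546, 164412590478065793, 146661937354899522, 110092522030891074, 72942158760640641, 56612142254657538, 128392382337523713, 128392382337519744, 56612142254661696, 72942158760648768, 110092522030895232]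
def chunk1 : List ℕ := [146661937354907649, 164412590478069762, 91211713778024577, 91792188204122178, 162991953860886594, 146112249136939137, 109511574084653058, 73491846978609153, 55191505637478528, 127811907911426112]
def ords0 : List OrdCert := [(1, [true], []),
  (21, [true, false, true, false, true], [(7, [true, true, true]), (3, [true, true])]),
  (2, [false, true], [(1, [true])]),
  (21, [true, false, true, false, true], [(7, [true, true, true]), (3, [true, true])]),
  (2, [false, true], [(1, [true])]),
  (2, [false, true], [(1, [true])]),
  (7, [true, true, true], [(1, [true])]),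
  (2, [false, true], [(1, [true])]),
  (2, [false, true], [(1, [true])]),
  (21, [true, false, true, false, true], [(7, [true, true, true]), (3, [true, true])]),
  (21, [true, false, true, false, true], [(7, [true, true, true]), (3, [true, true])]),
  (2, [false, true], [(1, [true])]),
  (2, [false, true], [(1, [true])]),
  (21, [true, false, true, false, true], [(7, [true, true, true]), (3, [true, true])]),
  (21, [true, false, true, false, true], [(7, [true, true, true]), (3, [true, true])]),
  (2, [false, true], [(1, [true])]),
  (2, [false, true], [(1, [true])]),
  (7, [true, true, true], [(1, [true])]),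
  (7, [true, true, true], [(1, [true])]),
  (2, [false, true], [(1, [true])]),
  (2, [false, true], [(1, [true])]),
  (21, [true, false, true, false, true], [(7, [true, true, true]), (3, [true, true])]),
  (3, [true, true], [(1, [true])]),
  (2, [false, true], [(1, [true])]),
  (2, [false, true], [(1, [true])]),
  (21, [true, false, true, false, true], [(7, [true, true, true]), (3, [true, true])]),
  (21, [true, false, true, false, true], [(7, [true, true, true]), (3, [true, true])]),
  (2, [false, true], [(1, [true])]),
  (2, [false, true], [(1, [true])]),
  (7, [true, true, true], [(1, [true])]),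
  (7, [true, true, true], [(1, [true])]),
  (2, [false, true], [(1, [true])])]
def ords1 : List OrdCert := [(2, [false, true], [(1, [true])]),
  (3, [true, true], [(1, [true])]),
  (21, [true, false, true, false, true], [(7, [true, true, true]), (3, [true, true])]),
  (2, [false, true], [(1, [true])]),
  (2, [false, true], [(1, [true])]),
  (21, [true, false, true, false, true], [(7, [true, true, true]), (3, [true, true])]),
  (21, [true, false, true, false, true], [(7, [true, true, true]), (3, [true, true])]),
  (2, [false, true], [(1, [true])]),
  (2, [false, true], [(1, [true])]),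
  (7, [true, true, true], [(1, [true])])]
def close0 : List (List ℕ) := [[0, 0], [0, 0], [0, 0], [0, 0], [0, 0], [0, 0], [0, 0], [0, 0], [0, 0], [0, 0], [0, 0], [0, 0], [0, 0], [0, 0], [0, 0], [0, 0], [0, 0], [0, 0], [0, 0], [0, 0], [0, 0], [0, 0], [0, 0], [0, 0], [0, 0], [0, 0], [0, 0], [0, 0], [1, 1], [0, 0], [1, 1], [0, 0]]
def close1 : List (List ℕ) := [[1, 1], [0, 0], [1, 1], [0, 0], [1, 1], [1, 1], [1, 1], [1, 1], [1, 1], [1, 1]]
def par0 : List (ℕ × ℕ) := [(0, 0), (0, 1), (1, 0), (1, 1), (2, 0), (3, 0), (3, 1), (5, 0), (5, 1), (6, 0), (6, 1), (8, 0), (8, 1), (10, 0), (10, 1), (12, 0), (12, 1), (14, 0), (14, 1), (16, 0), (16, 1), (18, 0), (18, 1), (20, 0), (20, 1), (22, 0), (22, 1), (24, 0), (24, 1), (26, 0), (26, 1), (28, 0)]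
def par1 : List (ℕ × ℕ) := [(28, 1), (30, 0), (30, 1), (32, 0), (32, 1), (34, 0), (34, 1), (36, 0), (36, 1)]

/-- The data. -/
def data : Data where
  deg := 10
  gens := [(56612142254653569, 146112249136943106), (128392382337515586, 128392382337515586)]
  elts := [chunk0, chunk1].flatten
  chunks := [chunk0, chunk1]
  parents := [par0, par1].flatten
  ords := [ords0, ords1].flatten
  closeCert := [close0, close1].flatten

theorem data_ok : chkData data = true := by decide +kernel

theorem vec : countVec data = [1, 22, 3, 22, 24, 7, 22, 24, 28, 21, 24, 28, 42, 28, 42, 42] := by decide +kernel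

theorem solv_ok : chkSolv data [[], [[0, 0, 0, 0, 0, 0, 0, 0, 0, 0, 0, 0, 0, 0, 0, 0, 0, 0, 0, 0]]] = true := by decide +kernel

theorem realizes : Realizes Solv [1, 22, 3, 22, 24, 7, 22, 24, 28, 21, 24, 28, 42, 28, 42, 42] :=
  vec ▸ realizes_data data_ok (solvable_of_chk solv_ok)

end CfsgLib.OrderType.G11
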