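import Cfsg.Agent.Lib.OrderType.Products

/-! Data for one factor of the order type example. -/

set_option autoImplicit false
set_option maxRecDepth 100000

namespace CfsgLib.OrderType.G12

def chunk0 : List ℕ := [11693627636546543680, 11693627427115786564, 9352050362023940227, 11693627225320468609, 9352050082784756038, 9352050152595018112, 10558443453518979136, 11693627496926019973, 9352050292215513154, 10558443244088222020, 9352050431716761796, 10558443174279794947, 8217420332856774787, 11693627287614537922, 9352050494010831109, 10558443042292904065, 8217420053617590598, 9352050222405279745, 10558443383708717062, 8217420123427852672, 11693627566736281606, 10558443313898455429, 8217420263048347714, 10558443104586973378, 8217420402549596356, 11693627357307359491, 8217420464843665669, 8217420193238114305]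
def ords0 : List OrdCert := [(1, [true], []),
  (7, [true, true, true], [(1, [true])]),
  (4, [false, false, true], [(2, [false, true])]),
  (7, [true, true, true], [(1, [true])]),
  (4, [false, false, true], [(2, [false, true])]),
  (4, [false, false, true], [(2, [false, true])]),
  (2, [false, true], [(1, [true])]),
  (7, [true, true, true], [(1, [true])]),
  (4, [false, false, true], [(2, [false, true])]),
  (14, [false, true, true, true], [(7, [true, true, true]), (2, [false, true])]),
  (4, [false, false, true], [(2, [false, true])]),
  (14, [false, true, true, true], [(7, [true, true, true]), (2, [false, true])]),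
  (4, [false, false, true], [(2, [false, true])]),
  (7, [true, true, true], [(1, [true])]),
  (4, [false, false, true], [(2, [false, true])]),
  (14, [false, true, true, true], [(7, [true, true, true]), (2, [false, true])]),
  (4, [false, false, true], [(2, [false, true])]),
  (4, [false, false, true], [(2, [false, true])]),
  (14, [false, true, true, true], [(7, [true, true, true]), (2, [false, true])]),
  (4, [false, false, true], [(2, [false, true])]),
  (7, [true, true, true], [(1, [true])]),
  (14, [false, true, true, true], [(7, [true, true, true]), (2, [false, true])]),
  (4, [false, false, true], [(2, [false, true])]),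
  (14, [false, true, true, true], [(7, [true, true, true]), (2, [false, true])]),
  (4, [false, false, true], [(2, [false, true])]),
  (7, [true, true, true], [(1, [true])]),
  (4, [false, false, true], [(2, [false, true])]),
  (4, [false, false, true], [(2, [false, true])])]
def close0 : List (List ℕ) := [[0, 0], [0, 0], [0, 0], [0, 0], [0, 0], [0, 0], [0, 0], [0, 0], [0, 0], [0, 0], [0, 0], [0, 0], [0, 0], [0, 0], [0, 0], [0, 0], [0, 0], [0, 0], [0, 0], [0, 0], [0, 0], [0, 0], [0, 0], [0, 0], [0, 0], [0, 0], [0, 0], [0, 0]]
def par0 : List (ℕ × ℕ) := [(0, 0), (0, 1), (1, 0), (1, 1), (2, 0), (2, 1), (3, 0), (3, 1), (4, 1), (5, 0), (5, 1), (6, 1), (7, 0), (7, 1), (8, 1), (9, 1), (10, 0), (10, 1), (11, 1), (13, 0), (14, 1), (15, 1), (17, 1), (18, 1), (19, 1), (21, 1), (23, 1)]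

/-- The data. -/
def data : Data where
  deg := 11
  gens := [(11693627427115786564, 11693627357307359491), (9352050362023940227, 8217420332856774787)]
  elts := [chunk0].flatten
  chunks := [chunk0]
  parents := [par0].flatten
  ords := [ords0].flatten
  closeCert := [close0].flatten

theorem data_ok : chkData data = true := by decide +kernel

theorem vec : countVec data = [1, 2, 1, 16, 2, 7, 16, 16, 14, 7, 16, 28, 14, 28, 28, 28] := by decide +kernel

theorem solv_ok : chkSolv data [[], [[0, 0, 0, 0, 0, 0]]] = true := by decide +kernel

theorem realizes : Realizes Solv [1, 2, 1, 16, 2, 7, 16, 16, 14, 7, 16, 28, 14, 28, 28, 28] :=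
  vec ▸ realizes_data data_ok (solvable_of_chk solv_ok)

end CfsgLib.OrderType.G12
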