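import Cfsg.Agent.Lib.OrderType.Products

/-! Data for one factor of the order type example. -/

set_option autoImplicit false
set_option maxRecDepth 100000

namespace CfsgLib.OrderType.G13

def chunk0 : List ℕ := [11693627636546543680, 4794398950248161344, 11621297227326304258, 5839520006631333952, 9404954806029922306, 4722068541027921922, 11639857256316539011, 7008771527743905856, 7064481446483996674, 10450075862413094914, 8252323301876043907, 5893259600651890690, 9297444358259216515, 4740628570018156675, 11602706893046808769, 8179962587367874624, 8233732967596568578, 5909880091130728579, 10557585836663636161, 7081101456043937923, 10468635417883185283, 8217143255927095489, 9388334315551064257, 4703478206748426433, 11675037302266798144, 9351183952281083968, 7045921891013886145, 5947029980881625152, 5874700052580532417, 10503846242642829376, 8163372875698151488, 9332624396810723392]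
def chunk1 : List ℕ := [4775808615968415808, 11656477273275772930, 10522405790714437696, 6992151037264797760, 7099661485034713090, 5928470425410744322, 10487225752163201026, 8144782541417885698, 9316004387249991682, 4757248586977390594, 11693627636545753219, 4794398950247370883, 7008771527743115395, 5839520006630543491, 10522405790713647235, 8179962587367084163, 9351183952280293507, 11621297227326554305, 9404954806030172353, 4722068541028171969, 7064481446484246721, 5893259600652140737, 10450075862413344961, 8233732967596818625, 11639857256317329472, 8252323301876834368, 9297444358260006976, 4740628570018947136, 7081101456044728384, 5909880091131519040, 10468635417883975744, 11602706893046558722]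
def chunk2 : List ℕ := [10557585836663386114, 8217143255926845442, 9388334315550814210, 4703478206748176386, 7045921891013636098, 5874700052580282370, 11675037302266007683, 5947029980880834691, 10503846242642038915, 8163372875697361027, 9332624396809932931, 4775808615967625347, 6992151037264007299, 11656477273276022977, 7099661485034963137, 5928470425410994369, 10487225752163451073, 8144782541418135745, 9316004387250241729, 4757248586977640641]
def ords0 : List OrdCert := [(1, [true], []),
  (7, [true, true, true], [(1, [true])]),
  (12, [false, false, true, true], [(6, [false, true, true]), (4, [false, false, true])]),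
  (7, [true, true, true], [(1, [true])]),
  (12, [false, false, true, true], [(6, [false, true, true]), (4, [false, false, true])]),
  (12, [false, false, true, true], [(6, [false, true, true]), (4, [false, false, true])]),
  (6, [false, true, true], [(3, [true, true]), (2, [false, true])]),
  (7, [true, true, true], [(1, [true])]),
  (12, [false, false, true, true], [(6, [false, true, true]), (4, [false, false, true])]),
  (12, [false, false, true, true], [(6, [false, true, true]), (4, [false, false, true])]),
  (6, [false, true, true], [(3, [true, true]), (2, [false, true])]),
  (12, [false, false, true, true], [(6, [false, true, true]), (4, [false, false, true])]),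
  (6, [false, true, true], [(3, [true, true]), (2, [false, true])]),
  (6, [false, true, true], [(3, [true, true]), (2, [false, true])]),
  (4, [false, false, true], [(2, [false, true])]),
  (7, [true, true, true], [(1, [true])]),
  (12, [false, false, true, true], [(6, [false, true, true]), (4, [false, false, true])]),
  (6, [false, true, true], [(3, [true, true]), (2, [false, true])]),
  (4, [false, false, true], [(2, [false, true])]),
  (6, [false, true, true], [(3, [true, true]), (2, [false, true])]),
  (6, [false, true, true], [(3, [true, true]), (2, [false, true])]),
  (4, [false, false, true], [(2, [false, true])]),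
  (4, [false, false, true], [(2, [false, true])]),
  (4, [false, false, true], [(2, [false, true])]),
  (3, [true, true], [(1, [true])]),
  (7, [true, true, true], [(1, [true])]),
  (4, [false, false, true], [(2, [false, true])]),
  (3, [true, true], [(1, [true])]),
  (4, [false, false, true], [(2, [false, true])]),
  (3, [true, true], [(1, [true])]),
  (3, [true, true], [(1, [true])]),
  (3, [true, true], [(1, [true])])]
def ords1 : List OrdCert := [(3, [true, true], [(1, [true])]),
  (12, [false, false, true, true], [(6, [false, true, true]), (4, [false, false, true])]),
  (7, [true, true, true], [(1, [true])]),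
  (3, [true, true], [(1, [true])]),
  (12, [false, false, true, true], [(6, [false, true, true]), (4, [false, false, true])]),
  (12, [false, false, true, true], [(6, [false, true, true]), (4, [false, false, true])]),
  (12, [false, false, true, true], [(6, [false, true, true]), (4, [false, false, true])]),
  (12, [false, false, true, true], [(6, [false, true, true]), (4, [false, false, true])]),
  (12, [false, false, true, true], [(6, [false, true, true]), (4, [false, false, true])]),
  (12, [false, false, true, true], [(6, [false, true, true]), (4, [false, false, true])]),
  (2, [false, true], [(1, [true])]),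
  (14, [false, true, true, true], [(7, [true, true, true]), (2, [false, true])]),
  (14, [false, true, true, true], [(7, [true, true, true]), (2, [false, true])]),
  (14, [false, true, true, true], [(7, [true, true, true]), (2, [false, true])]),
  (14, [false, true, true, true], [(7, [true, true, true]), (2, [false, true])]),
  (14, [false, true, true, true], [(7, [true, true, true]), (2, [false, true])]),
  (14, [false, true, true, true], [(7, [true, true, true]), (2, [false, true])]),
  (12, [false, false, true, true], [(6, [false, true, true]), (4, [false, false, true])]),
  (12, [false, false, true, true], [(6, [false, true, true]), (4, [false, false, true])]),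
  (12, [false, false, true, true], [(6, [false, true, true]), (4, [false, false, true])]),
  (12, [false, false, true, true], [(6, [false, true, true]), (4, [false, false, true])]),
  (12, [false, false, true, true], [(6, [false, true, true]), (4, [false, false, true])]),
  (12, [false, false, true, true], [(6, [false, true, true]), (4, [false, false, true])]),
  (12, [false, false, true, true], [(6, [false, true, true]), (4, [false, false, true])]),
  (3, [true, true], [(1, [true])]),
  (3, [true, true], [(1, [true])]),
  (3, [true, true], [(1, [true])]),
  (3, [true, true], [(1, [true])]),
  (3, [true, true], [(1, [true])]),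
  (3, [true, true], [(1, [true])]),
  (3, [true, true], [(1, [true])]),
  (4, [false, false, true], [(2, [false, true])])]
def ords2 : List OrdCert := [(4, [false, false, true], [(2, [false, true])]),
  (4, [false, false, true], [(2, [false, true])]),
  (4, [false, false, true], [(2, [false, true])]),
  (4, [false, false, true], [(2, [false, true])]),
  (4, [false, false, true], [(2, [false, true])]),
  (4, [false, false, true], [(2, [false, true])]),
  (6, [false, true, true], [(3, [true, true]), (2, [false, true])]),
  (6, [false, true, true], [(3, [true, true]), (2, [false, true])]),
  (6, [false, true, true], [(3, [true, true]), (2, [false, true])]),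
  (6, [false, true, true], [(3, [true, true]), (2, [false, true])]),
  (6, [false, true, true], [(3, [true, true]), (2, [false, true])]),
  (6, [false, true, true], [(3, [true, true]), (2, [false, true])]),
  (6, [false, true, true], [(3, [true, true]), (2, [false, true])]),
  (12, [false, false, true, true], [(6, [false, true, true]), (4, [false, false, true])]),
  (12, [false, false, true, true], [(6, [false, true, true]), (4, [false, false, true])]),
  (12, [false, false, true, true], [(6, [false, true, true]), (4, [false, false, true])]),
  (12, [false, false, true, true], [(6, [false, true, true]), (4, [false, false, true])]),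
  (12, [false, false, true, true], [(6, [false, true, true]), (4, [false, false, true])]),
  (12, [false, false, true, true], [(6, [false, true, true]), (4, [false, false, true])]),
  (12, [false, false, true, true], [(6, [false, true, true]), (4, [false, false, true])])]
def close0 : List (List ℕ) := [[0, 0], [0, 0], [0, 0], [0, 0], [0, 0], [0, 0], [0, 0], [0, 0], [0, 0], [0, 0], [0, 0], [0, 0], [0, 0], [0, 0], [0, 0], [0, 0], [0, 0], [0, 0], [0, 0], [0, 0], [0, 0], [0, 0], [0, 0], [0, 0], [1, 1], [1, 0], [0, 1], [1, 1], [0, 1], [0, 1], [0, 1], [0, 1]]
def close1 : List (List ℕ) := [[0, 1], [1, 1], [0, 0], [0, 1], [1, 1], [1, 1], [1, 1], [1, 1], [1, 1], [1, 1], [1, 1], [1, 1], [1, 1], [1, 1], [1, 1], [1, 1], [1, 1], [1, 1], [1, 1], [1, 1], [1, 1], [1, 1], [1, 1], [1, 1], [1, 1], [1, 2], [1, 2], [1, 2], [1, 2], [1, 2], [1, 2], [2, 2]]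
def close2 : List (List ℕ) := [[1, 2], [2, 2], [2, 2], [2, 2], [2, 2], [2, 2], [2, 2], [2, 2], [2, 2], [2, 2], [2, 2], [2, 2], [2, 2], [2, 0], [2, 0], [2, 0], [2, 0], [2, 1], [2, 0], [2, 0]]
def par0 : List (ℕ × ℕ) := [(0, 0), (0, 1), (1, 0), (1, 1), (2, 0), (2, 1), (3, 0), (3, 1), (4, 0), (4, 1), (5, 0), (5, 1), (6, 0), (6, 1), (7, 0), (8, 0), (9, 1), (10, 1), (11, 1), (12, 0), (12, 1), (13, 1), (14, 0), (14, 1), (15, 0), (17, 1), (18, 1), (20, 1), (21, 1), (22, 1), (23, 1), (24, 0)]
def par1 : List (ℕ × ℕ) := [(24, 1), (25, 0), (27, 0), (27, 1), (29, 1), (30, 1), (31, 1), (32, 1), (33, 0), (33, 1), (36, 1), (37, 1), (38, 1), (39, 1), (40, 1), (41, 1), (42, 1), (43, 1), (44, 1), (45, 1), (46, 1), (47, 1), (48, 1), (49, 1), (50, 1), (51, 1), (52, 1), (53, 1), (54, 1), (55, 1), (56, 1), (57, 1)]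
def par2 : List (ℕ × ℕ) := [(58, 1), (59, 1), (60, 1), (61, 1), (62, 1), (63, 1), (64, 1), (65, 1), (66, 1), (67, 1), (68, 1), (69, 1), (70, 1), (71, 1), (72, 1), (73, 1), (74, 1), (75, 1), (76, 1)]

/-- The data. -/
def data : Data where
  deg := 11
  gens := [(4794398950248161344, 10522405790714437696), (11621297227326304258, 11656477273276022977)]
  elts := [chunk0, chunk1, chunk2].flatten
  chunks := [chunk0, chunk1, chunk2]
  parents := [par0, par1, par2].flatten
  ords := [ords0, ords1, ords2].flatten
  closeCert := [close0, close1, close2].flatten

theorem data_ok : chkData data = true := by decide +kernel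

theorem vec : countVec data = [1, 2, 15, 16, 30, 7, 16, 72, 14, 21, 72, 28, 42, 28, 84, 84] := by decide +kernel

theorem solv_ok : chkSolv data [[], [[0, 0, 0, 0, 0]]] = true := by decide +kernel

theorem realizes : Realizes Solv [1, 2, 15, 16, 30, 7, 16, 72, 14, 21, 72, 28, 42, 28, 84, 84] :=
  vec ▸ realizes_data data_ok (solvable_of_chk solv_ok)

end CfsgLib.OrderType.G13
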