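import Cfsg.Agent.Lib.OrderType.Products

/-! Data for one factor of the order type example. -/

set_option autoImplicit false
set_option maxRecDepth 100000

namespace CfsgLib.OrderType.G14

def chunk0 : List ℕ := [3986500661908860327174208, 3981630775516317294809347, 3075154260338156103287110, 3972407385465273438441478, 3079655301921217492029571, 3065635794439526933856322, 2173109627233245583908928, 3986500661908511395168450, 3065635794439387313361280, 2168239740840702551544067, 3079655301921349478920453, 2159016350789519074681156, 2470698266379815389774150, 3981630775516456913469829, 3075154260338505035292868, 2159016350789658695176198, 2475199307962876778516611, 3075154260338295723810817, 2168239740840570564653185, 2461179800481186220343362, 3972407385464932022628481, 3079655301921077873369089, 2173109627232896651903170, 2461179800481046599848320, 3065635794439666435104964, 2173109627233105963385221, 2475199307963008765407493, 3972407385465133817946436, 3986500661908650896417092, 3065635794439728729174277, 2168239740840842170204549, 2470698266380164321779908]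
def chunk1 : List ℕ := [3079655301921008063107456, 2159016350789379573432514, 2470698266379955010297857, 3981630775516185307918465, 3981630775516596533993536, 3075154260338365534044226, 2159016350789317279363201, 2475199307962737159856129, 3075154260338435342471299, 2168239740840911980466182, 2461179800481325721592004, 3986500661908720706650501, 3972407385465064009519363, 3079655301920938252845382, 2173109627233036153151812, 2461179800481388015661317, 3065635794439317503099206, 2173109627232966344724739, 2475199307962667349594496, 3972407385464994316697794, 3986500661908790516912134, 3065635794439596742283395, 2168239740840981790728256, 2470698266380024820531266, 3079655301921147683602498, 2159016350789728505438272, 2470698266380094628958339, 3981630775516526723731462, 3981630775516247601987778, 3075154260338225913549184, 2159016350789449266254083, 2475199307962597539332422]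
def chunk2 : List ℕ := [3075154260338567329362181, 2168239740840772359971140, 2461179800480976789586246, 3986500661908581087990019, 3972407385465203628179845, 3079655301921287184851140, 2173109627233175773646854, 2461179800481256028770435, 3065635794439457123622913, 2173109627232834357833857, 2475199307962806970089538, 3972407385465343248703552, 3986500661908449101099137, 2168239740840632858722498, 2470698266379885200036224, 2159016350789588884914565, 2470698266380226615849221, 3981630775516387103236420, 2475199307962946471338180, 2461179800481116410109953]
def ords0 : List OrdCert := [(1, [true], []),
  (21, [true, false, true, false, true], [(7, [true, true, true]), (3, [true, true])]),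
  (4, [false, false, true], [(2, [false, true])]),
  (21, [true, false, true, false, true], [(7, [true, true, true]), (3, [true, true])]),
  (4, [false, false, true], [(2, [false, true])]),
  (4, [false, false, true], [(2, [false, true])]),
  (2, [false, true], [(1, [true])]),
  (7, [true, true, true], [(1, [true])]),
  (4, [false, false, true], [(2, [false, true])]),
  (42, [false, true, false, true, false, true], [(21, [true, false, true, false, true]), (14, [false, true, true, true]), (6, [false, true, true])]),
  (4, [false, false, true], [(2, [false, true])]),
  (42, [false, true, false, true, false, true], [(21, [true, false, true, false, true]), (14, [false, true, true, true]), (6, [false, true, true])]),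
  (4, [false, false, true], [(2, [false, true])]),
  (21, [true, false, true, false, true], [(7, [true, true, true]), (3, [true, true])]),
  (4, [false, false, true], [(2, [false, true])]),
  (42, [false, true, false, true, false, true], [(21, [true, false, true, false, true]), (14, [false, true, true, true]), (6, [false, true, true])]),
  (4, [false, false, true], [(2, [false, true])]),
  (4, [false, false, true], [(2, [false, true])]),
  (42, [false, true, false, true, false, true], [(21, [true, false, true, false, true]), (14, [false, true, true, true]), (6, [false, true, true])]),
  (4, [false, false, true], [(2, [false, true])]),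
  (21, [true, false, true, false, true], [(7, [true, true, true]), (3, [true, true])]),
  (4, [false, false, true], [(2, [false, true])]),
  (14, [false, true, true, true], [(7, [true, true, true]), (2, [false, true])]),
  (4, [false, false, true], [(2, [false, true])]),
  (4, [false, false, true], [(2, [false, true])]),
  (14, [false, true, true, true], [(7, [true, true, true]), (2, [false, true])]),
  (4, [false, false, true], [(2, [false, true])]),
  (21, [true, false, true, false, true], [(7, [true, true, true]), (3, [true, true])]),
  (7, [true, true, true], [(1, [true])]),
  (4, [false, false, true], [(2, [false, true])]),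
  (42, [false, true, false, true, false, true], [(21, [true, false, true, false, true]), (14, [false, true, true, true]), (6, [false, true, true])]),
  (4, [false, false, true], [(2, [false, true])])]
def ords1 : List OrdCert := [(4, [false, false, true], [(2, [false, true])]),
  (42, [false, true, false, true, false, true], [(21, [true, false, true, false, true]), (14, [false, true, true, true]), (6, [false, true, true])]),
  (4, [false, false, true], [(2, [false, true])]),
  (21, [true, false, true, false, true], [(7, [true, true, true]), (3, [true, true])]),
  (3, [true, true], [(1, [true])]),
  (4, [false, false, true], [(2, [false, true])]),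
  (42, [false, true, false, true, false, true], [(21, [true, false, true, false, true]), (14, [false, true, true, true]), (6, [false, true, true])]),
  (4, [false, false, true], [(2, [false, true])]),
  (4, [false, false, true], [(2, [false, true])]),
  (42, [false, true, false, true, false, true], [(21, [true, false, true, false, true]), (14, [false, true, true, true]), (6, [false, true, true])]),
  (4, [false, false, true], [(2, [false, true])]),
  (7, [true, true, true], [(1, [true])]),
  (21, [true, false, true, false, true], [(7, [true, true, true]), (3, [true, true])]),
  (4, [false, false, true], [(2, [false, true])]),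
  (14, [false, true, true, true], [(7, [true, true, true]), (2, [false, true])]),
  (4, [false, false, true], [(2, [false, true])]),
  (4, [false, false, true], [(2, [false, true])]),
  (14, [false, true, true, true], [(7, [true, true, true]), (2, [false, true])]),
  (4, [false, false, true], [(2, [false, true])]),
  (21, [true, false, true, false, true], [(7, [true, true, true]), (3, [true, true])]),
  (7, [true, true, true], [(1, [true])]),
  (4, [false, false, true], [(2, [false, true])]),
  (6, [false, true, true], [(3, [true, true]), (2, [false, true])]),
  (4, [false, false, true], [(2, [false, true])]),
  (4, [false, false, true], [(2, [false, true])]),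
  (6, [false, true, true], [(3, [true, true]), (2, [false, true])]),
  (4, [false, false, true], [(2, [false, true])]),
  (21, [true, false, true, false, true], [(7, [true, true, true]), (3, [true, true])]),
  (21, [true, false, true, false, true], [(7, [true, true, true]), (3, [true, true])]),
  (4, [false, false, true], [(2, [false, true])]),
  (42, [false, true, false, true, false, true], [(21, [true, false, true, false, true]), (14, [false, true, true, true]), (6, [false, true, true])]),
  (4, [false, false, true], [(2, [false, true])])]
def ords2 : List OrdCert := [(4, [false, false, true], [(2, [false, true])]),
  (42, [false, true, false, true, false, true], [(21, [true, false, true, false, true]), (14, [false, true, true, true]), (6, [false, true, true])]),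
  (4, [false, false, true], [(2, [false, true])]),
  (7, [true, true, true], [(1, [true])]),
  (21, [true, false, true, false, true], [(7, [true, true, true]), (3, [true, true])]),
  (4, [false, false, true], [(2, [false, true])]),
  (14, [false, true, true, true], [(7, [true, true, true]), (2, [false, true])]),
  (4, [false, false, true], [(2, [false, true])]),
  (4, [false, false, true], [(2, [false, true])]),
  (14, [false, true, true, true], [(7, [true, true, true]), (2, [false, true])]),
  (4, [false, false, true], [(2, [false, true])]),
  (3, [true, true], [(1, [true])]),
  (7, [true, true, true], [(1, [true])]),
  (42, [false, true, false, true, false, true], [(21, [true, false, true, false, true]), (14, [false, true, true, true]), (6, [false, true, true])]),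
  (4, [false, false, true], [(2, [false, true])]),
  (42, [false, true, false, true, false, true], [(21, [true, false, true, false, true]), (14, [false, true, true, true]), (6, [false, true, true])]),
  (4, [false, false, true], [(2, [false, true])]),
  (21, [true, false, true, false, true], [(7, [true, true, true]), (3, [true, true])]),
  (4, [false, false, true], [(2, [false, true])]),
  (4, [false, false, true], [(2, [false, true])])]
def close0 : List (List ℕ) := [[0, 0], [0, 0], [0, 0], [0, 0], [0, 0], [0, 0], [0, 0], [0, 0], [0, 0], [0, 0], [0, 0], [0, 0], [0, 0], [0, 0], [0, 0], [0, 0], [0, 0], [0, 0], [0, 0], [0, 0], [0, 0], [0, 0], [0, 0], [0, 0], [1, 1], [0, 1], [1, 1], [0, 0], [1, 1], [0, 1], [1, 1], [0, 0]]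
def close1 : List (List ℕ) := [[1, 1], [0, 1], [1, 1], [0, 0], [1, 1], [0, 1], [1, 1], [0, 0], [1, 1], [1, 1], [1, 1], [1, 0], [1, 1], [1, 1], [1, 1], [1, 0], [1, 1], [1, 1], [1, 1], [1, 0], [1, 1], [1, 1], [1, 1], [1, 0], [2, 2], [1, 2], [2, 2], [1, 1], [2, 2], [1, 2], [2, 2], [1, 1]]
def close2 : List (List ℕ) := [[2, 2], [1, 2], [2, 2], [1, 1], [2, 2], [1, 2], [2, 2], [1, 1], [2, 2], [2, 2], [2, 2], [2, 1], [2, 2], [2, 2], [2, 1], [2, 2], [2, 2], [2, 1], [2, 1], [2, 2]]
def par0 : List (ℕ × ℕ) := [(0, 0), (0, 1), (1, 0), (1, 1), (2, 0), (2, 1), (3, 0), (3, 1), (4, 1), (5, 0), (5, 1), (6, 1), (7, 0), (7, 1), (8, 1), (9, 1), (10, 0), (10, 1), (11, 1), (13, 0), (13, 1), (14, 1), (15, 1), (17, 0), (17, 1), (18, 1), (19, 1), (20, 0), (20, 1), (21, 1), (22, 1), (24, 0)]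
def par1 : List (ℕ × ℕ) := [(24, 1), (25, 1), (26, 1), (28, 0), (28, 1), (29, 1), (30, 1), (32, 0), (32, 1), (33, 1), (34, 1), (36, 0), (36, 1), (37, 1), (38, 1), (40, 0), (40, 1), (41, 1), (42, 1), (44, 0), (44, 1), (45, 1), (46, 1), (48, 0), (48, 1), (49, 1), (50, 1), (52, 0), (52, 1), (53, 1), (54, 1), (56, 0)]
def par2 : List (ℕ × ℕ) := [(56, 1), (57, 1), (58, 1), (60, 0), (60, 1), (61, 1), (62, 1), (64, 0), (64, 1), (65, 1), (66, 1), (68, 0), (69, 1), (70, 1), (72, 1), (73, 1), (74, 1), (77, 1), (79, 1)]

/-- The data. -/
def data : Data where
  deg := 14
  gens := [(3981630775516317294809347, 3972407385465133817946436), (3075154260338156103287110, 2470698266379815389774150)]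
  elts := [chunk0, chunk1, chunk2].flatten
  chunks := [chunk0, chunk1, chunk2]
  parents := [par0, par1, par2].flatten
  ords := [ords0, ords1, ords2].flatten
  closeCert := [close0, close1, close2].flatten

theorem data_ok : chkData data = true := by decide +kernel

theorem vec : countVec data = [1, 2, 3, 44, 6, 7, 44, 48, 14, 21, 48, 56, 42, 56, 84, 84] := by decide +kernel

theorem solv_ok : chkSolv data [[], [[0, 0, 0, 0, 0, 0, 0, 0, 0, 0, 0, 0, 0, 0, 0, 0, 0, 0, 0, 0]]] = true := by decide +kernel

theorem realizes : Realizes Solv [1, 2, 3, 44, 6, 7, 44, 48, 14, 21, 48, 56, 42, 56, 84, 84] :=
  vec ▸ realizes_data data_ok (solvable_of_chk solv_ok)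

end CfsgLib.OrderType.G14
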