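import Cfsg.Agent.Lib.OrderType.Products

/-! Data for one factor of the order type example. -/

set_option autoImplicit false
set_option maxRecDepth 100000

namespace CfsgLib.OrderType.G15

def chunk0 : List ℕ := [31204079050816, 9002269831429, 17942343323779, 70918361479, 344739819970, 73100189890, 4401302618566, 22272727580866, 13608722628865, 26871513481540, 13332654088516, 17666274783430, 22266184741255, 9280452301120, 9008812671040, 21994545111175, 30930257592325, 8872397135875, 9074276331526, 13339196411905, 31201897222405, 9281441124739, 9007687274950, 26873694793729, 4673010147715, 17935801000390, 26601987264580, 26735097946375, 30861488562499, 4403483930755, 21993556287556, 4404607197445]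
def chunk1 : List ℕ := [18074330464645, 22200721080769, 4680474976576, 17939039809600, 13200666947650, 26395813359874, 13611825381826, 26870390214850, 4539899465920, 17735045878144, 211629654145, 413508849796, 31063367758150, 22402600276420, 13675243262086, 26594522435719, 4879184052421, 13475478503557, 26739460538497, 31198660542595, 350090719489, 76336869700, 30924906692806, 13198552469830, 26393698648135, 22267310137345, 13607597797381, 13539951534151, 17663172030469, 22065429885184, 486439661638, 207267062023]
def chunk2 : List ℕ := [13335957602695, 4542011814340, 17737157992645, 30929134825729, 17599754150209, 4814709989383, 18078692024323, 31061255409730, 13537839419650, 17667399614914, 26531104555459, 22127789236483, 4535536873798, 26732985597955, 30859374383110, 21997783355779, 30996780290434, 17799518908738, 22406961836098, 9209567527111, 9147208175812, 8868035576197, 278217121861, 4743892856836, 26390495498437, 30788557750657, 22404714754240, 4881298764160, 13196305387972, 26460287422912, 26668643131585, 31131047043460]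
def chunk3 : List ℕ := [22059020722375, 345862586566, 8870282658055, 9072163684675, 9277214056516, 213742002565, 415623029185, 18076444942465, 26530013802565, 22202833727620, 22128846717376, 4676246327431, 26598751084864, 30858351739012, 31067730350272, 4884501913858, 8797218169285, 8800489992385, 9215976689920, 30997870043140, 17798462460289, 416645673283, 17729726984263, 31134318866560, 13268346232960, 17593345519750, 277127369155, 26459229942019, 22197583224838, 4606354280710, 18006651179335, 30994733203525]
def chunk4 : List ℕ := [22066518573190, 485383213189, 18012103508035, 22474507419910, 4745939411395, 13545270428032, 13262893904260, 26663190802885, 13681651892545, 9077414187457, 22130959872385, 140678545735, 143950368835, 4744983609730, 30789614199106, 26529058000900, 22477779243010, 4611806609410, 280264208770, 17800576131520, 13676335079680, 13476534952006, 9208478839105, 9146150694919, 17598662332615, 4815767470276, 18007742763010, 487496884420, 30787500527875, 26457116787010, 22473417965635, 9144037539910]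
def chunk5 : List ℕ := [4610715025735, 4817880625285, 8801579446660, 13474421280775, 145039823110, 31129957589185, 26664282386560, 13267254649285]
def ords0 : List OrdCert := [(1, [true], []),
  (2, [false, true], [(1, [true])]),
  (2, [false, true], [(1, [true])]),
  (2, [false, true], [(1, [true])]),
  (7, [true, true, true], [(1, [true])]),
  (6, [false, true, true], [(3, [true, true]), (2, [false, true])]),
  (2, [false, true], [(1, [true])]),
  (2, [false, true], [(1, [true])]),
  (7, [true, true, true], [(1, [true])]),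
  (6, [false, true, true], [(3, [true, true]), (2, [false, true])]),
  (2, [false, true], [(1, [true])]),
  (7, [true, true, true], [(1, [true])]),
  (6, [false, true, true], [(3, [true, true]), (2, [false, true])]),
  (7, [true, true, true], [(1, [true])]),
  (3, [true, true], [(1, [true])]),
  (7, [true, true, true], [(1, [true])]),
  (7, [true, true, true], [(1, [true])]),
  (7, [true, true, true], [(1, [true])]),
  (6, [false, true, true], [(3, [true, true]), (2, [false, true])]),
  (6, [false, true, true], [(3, [true, true]), (2, [false, true])]),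
  (3, [true, true], [(1, [true])]),
  (6, [false, true, true], [(3, [true, true]), (2, [false, true])]),
  (3, [true, true], [(1, [true])]),
  (2, [false, true], [(1, [true])]),
  (7, [true, true, true], [(1, [true])]),
  (3, [true, true], [(1, [true])]),
  (7, [true, true, true], [(1, [true])]),
  (7, [true, true, true], [(1, [true])]),
  (3, [true, true], [(1, [true])]),
  (3, [true, true], [(1, [true])]),
  (3, [true, true], [(1, [true])]),
  (3, [true, true], [(1, [true])])]
def ords1 : List OrdCert := [(7, [true, true, true], [(1, [true])]),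
  (6, [false, true, true], [(3, [true, true]), (2, [false, true])]),
  (3, [true, true], [(1, [true])]),
  (3, [true, true], [(1, [true])]),
  (7, [true, true, true], [(1, [true])]),
  (6, [false, true, true], [(3, [true, true]), (2, [false, true])]),
  (3, [true, true], [(1, [true])]),
  (6, [false, true, true], [(3, [true, true]), (2, [false, true])]),
  (7, [true, true, true], [(1, [true])]),
  (3, [true, true], [(1, [true])]),
  (7, [true, true, true], [(1, [true])]),
  (3, [true, true], [(1, [true])]),
  (7, [true, true, true], [(1, [true])]),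
  (7, [true, true, true], [(1, [true])]),
  (7, [true, true, true], [(1, [true])]),
  (6, [false, true, true], [(3, [true, true]), (2, [false, true])]),
  (6, [false, true, true], [(3, [true, true]), (2, [false, true])]),
  (6, [false, true, true], [(3, [true, true]), (2, [false, true])]),
  (3, [true, true], [(1, [true])]),
  (3, [true, true], [(1, [true])]),
  (6, [false, true, true], [(3, [true, true]), (2, [false, true])]),
  (6, [false, true, true], [(3, [true, true]), (2, [false, true])]),
  (3, [true, true], [(1, [true])]),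
  (6, [false, true, true], [(3, [true, true]), (2, [false, true])]),
  (3, [true, true], [(1, [true])]),
  (6, [false, true, true], [(3, [true, true]), (2, [false, true])]),
  (3, [true, true], [(1, [true])]),
  (3, [true, true], [(1, [true])]),
  (6, [false, true, true], [(3, [true, true]), (2, [false, true])]),
  (7, [true, true, true], [(1, [true])]),
  (3, [true, true], [(1, [true])]),
  (6, [false, true, true], [(3, [true, true]), (2, [false, true])])]
def ords2 : List OrdCert := [(6, [false, true, true], [(3, [true, true]), (2, [false, true])]),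
  (6, [false, true, true], [(3, [true, true]), (2, [false, true])]),
  (6, [false, true, true], [(3, [true, true]), (2, [false, true])]),
  (3, [true, true], [(1, [true])]),
  (7, [true, true, true], [(1, [true])]),
  (3, [true, true], [(1, [true])]),
  (3, [true, true], [(1, [true])]),
  (3, [true, true], [(1, [true])]),
  (6, [false, true, true], [(3, [true, true]), (2, [false, true])]),
  (6, [false, true, true], [(3, [true, true]), (2, [false, true])]),
  (7, [true, true, true], [(1, [true])]),
  (6, [false, true, true], [(3, [true, true]), (2, [false, true])]),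
  (6, [false, true, true], [(3, [true, true]), (2, [false, true])]),
  (6, [false, true, true], [(3, [true, true]), (2, [false, true])]),
  (3, [true, true], [(1, [true])]),
  (6, [false, true, true], [(3, [true, true]), (2, [false, true])]),
  (7, [true, true, true], [(1, [true])]),
  (6, [false, true, true], [(3, [true, true]), (2, [false, true])]),
  (3, [true, true], [(1, [true])]),
  (7, [true, true, true], [(1, [true])]),
  (6, [false, true, true], [(3, [true, true]), (2, [false, true])]),
  (6, [false, true, true], [(3, [true, true]), (2, [false, true])]),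
  (7, [true, true, true], [(1, [true])]),
  (7, [true, true, true], [(1, [true])]),
  (7, [true, true, true], [(1, [true])]),
  (3, [true, true], [(1, [true])]),
  (3, [true, true], [(1, [true])]),
  (3, [true, true], [(1, [true])]),
  (6, [false, true, true], [(3, [true, true]), (2, [false, true])]),
  (3, [true, true], [(1, [true])]),
  (3, [true, true], [(1, [true])]),
  (3, [true, true], [(1, [true])])]
def ords3 : List OrdCert := [(3, [true, true], [(1, [true])]),
  (6, [false, true, true], [(3, [true, true]), (2, [false, true])]),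
  (3, [true, true], [(1, [true])]),
  (6, [false, true, true], [(3, [true, true]), (2, [false, true])]),
  (3, [true, true], [(1, [true])]),
  (3, [true, true], [(1, [true])]),
  (3, [true, true], [(1, [true])]),
  (6, [false, true, true], [(3, [true, true]), (2, [false, true])]),
  (3, [true, true], [(1, [true])]),
  (6, [false, true, true], [(3, [true, true]), (2, [false, true])]),
  (3, [true, true], [(1, [true])]),
  (6, [false, true, true], [(3, [true, true]), (2, [false, true])]),
  (3, [true, true], [(1, [true])]),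
  (7, [true, true, true], [(1, [true])]),
  (3, [true, true], [(1, [true])]),
  (7, [true, true, true], [(1, [true])]),
  (6, [false, true, true], [(3, [true, true]), (2, [false, true])]),
  (6, [false, true, true], [(3, [true, true]), (2, [false, true])]),
  (3, [true, true], [(1, [true])]),
  (3, [true, true], [(1, [true])]),
  (6, [false, true, true], [(3, [true, true]), (2, [false, true])]),
  (7, [true, true, true], [(1, [true])]),
  (7, [true, true, true], [(1, [true])]),
  (3, [true, true], [(1, [true])]),
  (3, [true, true], [(1, [true])]),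
  (6, [false, true, true], [(3, [true, true]), (2, [false, true])]),
  (6, [false, true, true], [(3, [true, true]), (2, [false, true])]),
  (6, [false, true, true], [(3, [true, true]), (2, [false, true])]),
  (7, [true, true, true], [(1, [true])]),
  (6, [false, true, true], [(3, [true, true]), (2, [false, true])]),
  (3, [true, true], [(1, [true])]),
  (3, [true, true], [(1, [true])])]
def ords4 : List OrdCert := [(6, [false, true, true], [(3, [true, true]), (2, [false, true])]),
  (6, [false, true, true], [(3, [true, true]), (2, [false, true])]),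
  (3, [true, true], [(1, [true])]),
  (6, [false, true, true], [(3, [true, true]), (2, [false, true])]),
  (6, [false, true, true], [(3, [true, true]), (2, [false, true])]),
  (7, [true, true, true], [(1, [true])]),
  (6, [false, true, true], [(3, [true, true]), (2, [false, true])]),
  (6, [false, true, true], [(3, [true, true]), (2, [false, true])]),
  (6, [false, true, true], [(3, [true, true]), (2, [false, true])]),
  (7, [true, true, true], [(1, [true])]),
  (7, [true, true, true], [(1, [true])]),
  (6, [false, true, true], [(3, [true, true]), (2, [false, true])]),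
  (3, [true, true], [(1, [true])]),
  (6, [false, true, true], [(3, [true, true]), (2, [false, true])]),
  (3, [true, true], [(1, [true])]),
  (6, [false, true, true], [(3, [true, true]), (2, [false, true])]),
  (3, [true, true], [(1, [true])]),
  (6, [false, true, true], [(3, [true, true]), (2, [false, true])]),
  (3, [true, true], [(1, [true])]),
  (7, [true, true, true], [(1, [true])]),
  (3, [true, true], [(1, [true])]),
  (3, [true, true], [(1, [true])]),
  (3, [true, true], [(1, [true])]),
  (6, [false, true, true], [(3, [true, true]), (2, [false, true])]),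
  (6, [false, true, true], [(3, [true, true]), (2, [false, true])]),
  (3, [true, true], [(1, [true])]),
  (7, [true, true, true], [(1, [true])]),
  (7, [true, true, true], [(1, [true])]),
  (7, [true, true, true], [(1, [true])]),
  (7, [true, true, true], [(1, [true])]),
  (7, [true, true, true], [(1, [true])]),
  (7, [true, true, true], [(1, [true])])]
def ords5 : List OrdCert := [(7, [true, true, true], [(1, [true])]),
  (7, [true, true, true], [(1, [true])]),
  (7, [true, true, true], [(1, [true])]),
  (7, [true, true, true], [(1, [true])]),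
  (7, [true, true, true], [(1, [true])]),
  (7, [true, true, true], [(1, [true])]),
  (7, [true, true, true], [(1, [true])]),
  (7, [true, true, true], [(1, [true])])]
def close0 : List (List ℕ) := [[0, 0, 0, 0, 0], [0, 0, 0, 0, 0], [0, 0, 0, 0, 0], [0, 0, 0, 0, 0], [0, 0, 0, 0, 0], [0, 0, 0, 0, 0], [0, 0, 0, 0, 0], [0, 0, 0, 0, 0], [0, 0, 0, 0, 0], [0, 0, 0, 0, 0], [0, 0, 0, 0, 0], [0, 0, 0, 1, 1], [0, 0, 0, 1, 1], [0, 0, 0, 1, 1], [0, 0, 0, 1, 1], [0, 0, 0, 1, 1], [0, 0, 0, 1, 1], [1, 1, 1, 1, 1], [0, 1, 1, 1, 1], [0, 0, 0, 1, 1], [0, 0, 0, 1, 1], [1, 1, 0, 1, 1], [1, 0, 1, 1, 0], [0, 0, 0, 0, 0], [0, 0, 0, 1, 1], [0, 0, 0, 1, 1], [0, 0, 0, 1, 1], [1, 1, 1, 1, 1], [0, 1, 1, 1, 1], [0, 0, 0, 1, 2], [1, 1, 0, 2, 2], [1, 0, 1, 2, 0]]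
def close1 : List (List ℕ) := [[1, 1, 1, 2, 0], [1, 1, 0, 2, 2], [1, 0, 1, 2, 2], [0, 1, 2, 2, 0], [0, 1, 1, 2, 1], [1, 1, 1, 2, 2], [1, 1, 1, 2, 2], [2, 1, 0, 2, 0], [1, 0, 0, 2, 1], [1, 0, 1, 2, 2], [1, 1, 1, 2, 0], [1, 1, 0, 2, 2], [0, 1, 1, 2, 1], [1, 0, 0, 2, 1], [2, 2, 2, 2, 2], [1, 0, 1, 2, 2], [1, 0, 1, 2, 2], [2, 1, 2, 2, 2], [2, 2, 2, 3, 0], [0, 1, 1, 3, 0], [0, 1, 1, 3, 3], [1, 2, 1, 3, 0], [0, 1, 1, 3, 3], [2, 3, 3, 3, 2], [2, 3, 2, 3, 1], [1, 1, 0, 3, 0], [3, 3, 2, 1, 3], [1, 1, 1, 2, 3], [1, 1, 1, 3, 3], [2, 2, 2, 3, 2], [2, 1, 2, 3, 3], [2, 2, 3, 3, 0]]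
def close2 : List (List ℕ) := [[1, 1, 1, 3, 0], [3, 3, 2, 3, 1], [2, 2, 2, 3, 1], [3, 2, 3, 1, 3], [2, 2, 1, 3, 2], [2, 2, 2, 3, 3], [2, 3, 2, 3, 0], [3, 3, 3, 3, 3], [1, 3, 2, 3, 1], [3, 2, 1, 2, 3], [1, 1, 2, 3, 2], [1, 2, 2, 3, 3], [2, 2, 1, 3, 0], [1, 2, 2, 4, 3], [3, 2, 3, 4, 1], [3, 3, 3, 2, 3], [2, 2, 2, 3, 1], [2, 2, 1, 4, 4], [1, 1, 2, 4, 0], [2, 2, 1, 4, 2], [2, 2, 2, 4, 4], [3, 2, 2, 4, 0], [1, 1, 2, 4, 2], [2, 2, 2, 3, 1], [4, 3, 3, 4, 2], [2, 2, 1, 4, 4], [3, 2, 3, 4, 2], [2, 3, 1, 4, 1], [1, 1, 2, 4, 0], [1, 2, 2, 4, 4], [4, 4, 3, 0, 4], [3, 3, 4, 1, 2]]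
def close3 : List (List ℕ) := [[4, 4, 3, 2, 4], [2, 1, 2, 2, 4], [2, 2, 2, 4, 3], [2, 2, 3, 4, 0], [2, 3, 2, 2, 2], [2, 1, 2, 4, 3], [3, 2, 2, 4, 0], [2, 2, 1, 4, 2], [4, 4, 4, 1, 4], [3, 1, 3, 4, 1], [4, 3, 4, 4, 4], [2, 3, 3, 3, 4], [1, 2, 3, 2, 3], [4, 3, 3, 4, 3], [2, 2, 1, 4, 0], [3, 4, 2, 4, 1], [3, 3, 4, 0, 4], [2, 4, 4, 2, 2], [3, 4, 3, 2, 4], [4, 4, 3, 1, 4], [4, 4, 4, 3, 4], [3, 4, 3, 4, 3], [3, 3, 4, 4, 2], [3, 4, 4, 0, 4], [4, 4, 3, 1, 2], [4, 3, 4, 2, 4], [4, 4, 3, 0, 4], [4, 3, 4, 4, 5], [3, 2, 4, 5, 3], [4, 3, 2, 0, 4], [4, 2, 3, 1, 1], [3, 3, 4, 3, 4]]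
def close4 : List (List ℕ) := [[3, 3, 4, 1, 3], [3, 4, 4, 3, 5], [3, 3, 4, 0, 3], [4, 4, 3, 0, 2], [3, 3, 4, 2, 5], [2, 3, 3, 4, 2], [2, 4, 4, 0, 3], [3, 4, 4, 1, 2], [4, 4, 3, 1, 4], [3, 3, 3, 5, 2], [4, 4, 4, 5, 4], [4, 4, 3, 0, 3], [4, 3, 2, 0, 2], [4, 4, 3, 0, 4], [4, 3, 4, 4, 5], [4, 3, 4, 3, 5], [4, 2, 3, 0, 3], [3, 3, 4, 1, 1], [3, 4, 3, 3, 4], [5, 4, 5, 4, 4], [3, 3, 4, 1, 4], [3, 4, 3, 4, 5], [3, 4, 4, 1, 3], [4, 4, 3, 3, 5], [4, 3, 4, 1, 3], [3, 4, 3, 2, 5], [5, 5, 5, 0, 4], [4, 5, 4, 5, 3], [4, 4, 4, 5, 4], [5, 4, 5, 4, 3], [5, 5, 5, 0, 4], [4, 5, 4, 5, 2]]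
def close5 : List (List ℕ) := [[4, 5, 5, 0, 4], [4, 4, 4, 5, 4], [5, 5, 4, 0, 3], [4, 4, 4, 5, 3], [4, 5, 5, 0, 4], [5, 4, 5, 0, 3], [5, 4, 5, 0, 4], [5, 5, 4, 0, 3]]
def par0 : List (ℕ × ℕ) := [(0, 0), (0, 1), (0, 2), (0, 3), (0, 4), (1, 1), (1, 2), (1, 3), (1, 4), (2, 2), (2, 3), (2, 4), (3, 3), (3, 4), (4, 0), (4, 2), (4, 3), (4, 4), (5, 1), (5, 2), (5, 3), (5, 4), (6, 2), (7, 3), (7, 4), (8, 0), (8, 3), (8, 4), (9, 2), (9, 3), (9, 4), (11, 3)]
def par1 : List (ℕ × ℕ) := [(11, 4), (12, 3), (12, 4), (13, 3), (13, 4), (14, 3), (14, 4), (15, 3), (15, 4), (16, 3), (16, 4), (17, 0), (17, 2), (17, 3), (17, 4), (18, 1), (18, 3), (18, 4), (19, 4), (20, 3), (20, 4), (21, 0), (21, 3), (21, 4), (22, 2), (22, 3), (24, 4), (25, 3), (27, 3), (28, 3), (28, 4), (29, 4)]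
def par2 : List (ℕ × ℕ) := [(30, 3), (30, 4), (31, 3), (32, 3), (33, 3), (33, 4), (34, 3), (34, 4), (35, 3), (36, 3), (37, 3), (37, 4), (38, 3), (38, 4), (39, 3), (40, 3), (41, 3), (41, 4), (42, 3), (43, 3), (43, 4), (44, 3), (45, 3), (46, 3), (46, 4), (47, 3), (47, 4), (48, 4), (49, 0), (49, 3), (49, 4), (50, 3)]
def par3 : List (ℕ × ℕ) := [(51, 3), (52, 3), (52, 4), (53, 3), (54, 3), (54, 4), (55, 2), (55, 3), (56, 1), (56, 3), (57, 3), (58, 0), (58, 4), (59, 4), (61, 3), (62, 3), (62, 4), (63, 3), (65, 3), (66, 3), (67, 4), (68, 3), (69, 3), (69, 4), (70, 3), (71, 3), (72, 3), (73, 4), (75, 3), (75, 4), (76, 3), (77, 3)]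
def par4 : List (ℕ × ℕ) := [(78, 3), (81, 3), (81, 4), (82, 3), (83, 3), (84, 3), (84, 4), (85, 3), (86, 3), (88, 3), (89, 3), (89, 4), (90, 3), (91, 3), (92, 3), (93, 3), (93, 4), (96, 0), (96, 4), (98, 3), (99, 3), (101, 3), (102, 3), (103, 3), (104, 4), (106, 4), (109, 3), (111, 3), (114, 4), (116, 4), (117, 3), (123, 4)]
def par5 : List (ℕ × ℕ) := [(124, 3), (129, 4), (132, 4), (142, 4), (149, 4), (151, 4), (153, 4)]

/-- The data. -/
def data : Data where
  deg := 8
  gens := [(9002269831429, 9002269831429), (17942343323779, 17942343323779), (70918361479, 70918361479), (344739819970, 4610715025735), (73100189890, 13335957602695)]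
  elts := [chunk0, chunk1, chunk2, chunk3, chunk4, chunk5].flatten
  chunks := [chunk0, chunk1, chunk2, chunk3, chunk4, chunk5]
  parents := [par0, par1, par2, par3, par4, par5].flatten
  ords := [ords0, ords1, ords2, ords3, ords4, ords5].flatten
  closeCert := [close0, close1, close2, close3, close4, close5].flatten

theorem data_ok : chkData data = true := by decide +kernel

theorem vec : countVec data = [1, 8, 57, 8, 120, 49, 8, 120, 56, 105, 120, 56, 168, 56, 168, 168] := by decide +kernel

theorem solv_ok : chkSolv data [[], [[0]], [[0], [1]], [[1], [2, 1], [2, 0]], [[1, 0], [0], [2, 0], [3, 3, 3, 3, 0]]] = true := by decide +kernel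

theorem realizes : Realizes Solv [1, 8, 57, 8, 120, 49, 8, 120, 56, 105, 120, 56, 168, 56, 168, 168] :=
  vec ▸ realizes_data data_ok (solvable_of_chk solv_ok)

end CfsgLib.OrderType.G15
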