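import Cfsg.Agent.Lib.OrderType.Products

/-! Data for one factor of the order type example. -/

set_option autoImplicit false
set_option maxRecDepth 100000

namespace CfsgLib.OrderType.G16

def chunk0 : List ℕ := [11693627636546543680, 4794398950247370883, 8179962587367354370, 11602706893046820865, 5839520006631333952, 9351183952280813761, 10557585836663374018, 7045921891013369923, 4703478206748164290, 8217143255927361664, 7008771527743115395, 10522405790713917442, 9388334315551076353, 5874700052580798592, 5874700052580544513, 9388334315550548035, 10522405790713647235, 7008771527743635649, 8179962587367874624, 11693627636546273473, 8217143255926833346, 4703478206747910211, 7045921891013624002, 10557585836663902336, 9351183952281083968, 5839520006630813698, 9351183952280293507, 4794398950247641090, 7045921891013898241, 11602706893047074944, 8217143255927107585, 11602706893046292547]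
def chunk1 : List ℕ := [8179962587367084163, 4794398950247891137, 10522405790714437696, 5839520006631063745, 5874700052580270274, 10557585836663119939, 9388334315550802114, 4703478206748692608, 7008771527743905856, 11693627636546023426, 11693627636545753219, 7008771527743385602, 4703478206748438529, 9388334315551330432, 10557585836663648257, 5874700052580016195, 5839520006630543491, 10522405790714167489, 4794398950248161344, 8179962587367604417, 11602706893046546626, 8217143255926579267, 7045921891014152320, 9351183952280563714]
def ords0 : List OrdCert := [(1, [true], []),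
  (14, [false, true, true, true], [(7, [true, true, true]), (2, [false, true])]),
  (28, [false, false, true, true, true], [(14, [false, true, true, true]), (4, [false, false, true])]),
  (2, [false, true], [(1, [true])]),
  (7, [true, true, true], [(1, [true])]),
  (28, [false, false, true, true, true], [(14, [false, true, true, true]), (4, [false, false, true])]),
  (2, [false, true], [(1, [true])]),
  (2, [false, true], [(1, [true])]),
  (2, [false, true], [(1, [true])]),
  (2, [false, true], [(1, [true])]),
  (14, [false, true, true, true], [(7, [true, true, true]), (2, [false, true])]),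
  (28, [false, false, true, true, true], [(14, [false, true, true, true]), (4, [false, false, true])]),
  (2, [false, true], [(1, [true])]),
  (2, [false, true], [(1, [true])]),
  (2, [false, true], [(1, [true])]),
  (2, [false, true], [(1, [true])]),
  (14, [false, true, true, true], [(7, [true, true, true]), (2, [false, true])]),
  (28, [false, false, true, true, true], [(14, [false, true, true, true]), (4, [false, false, true])]),
  (7, [true, true, true], [(1, [true])]),
  (4, [false, false, true], [(2, [false, true])]),
  (2, [false, true], [(1, [true])]),
  (2, [false, true], [(1, [true])]),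
  (2, [false, true], [(1, [true])]),
  (2, [false, true], [(1, [true])]),
  (7, [true, true, true], [(1, [true])]),
  (28, [false, false, true, true, true], [(14, [false, true, true, true]), (4, [false, false, true])]),
  (14, [false, true, true, true], [(7, [true, true, true]), (2, [false, true])]),
  (28, [false, false, true, true, true], [(14, [false, true, true, true]), (4, [false, false, true])]),
  (2, [false, true], [(1, [true])]),
  (2, [false, true], [(1, [true])]),
  (2, [false, true], [(1, [true])]),
  (2, [false, true], [(1, [true])])]
def ords1 : List OrdCert := [(14, [false, true, true, true], [(7, [true, true, true]), (2, [false, true])]),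
  (28, [false, false, true, true, true], [(14, [false, true, true, true]), (4, [false, false, true])]),
  (7, [true, true, true], [(1, [true])]),
  (28, [false, false, true, true, true], [(14, [false, true, true, true]), (4, [false, false, true])]),
  (2, [false, true], [(1, [true])]),
  (2, [false, true], [(1, [true])]),
  (2, [false, true], [(1, [true])]),
  (2, [false, true], [(1, [true])]),
  (7, [true, true, true], [(1, [true])]),
  (4, [false, false, true], [(2, [false, true])]),
  (2, [false, true], [(1, [true])]),
  (28, [false, false, true, true, true], [(14, [false, true, true, true]), (4, [false, false, true])]),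
  (2, [false, true], [(1, [true])]),
  (2, [false, true], [(1, [true])]),
  (2, [false, true], [(1, [true])]),
  (2, [false, true], [(1, [true])]),
  (14, [false, true, true, true], [(7, [true, true, true]), (2, [false, true])]),
  (28, [false, false, true, true, true], [(14, [false, true, true, true]), (4, [false, false, true])]),
  (7, [true, true, true], [(1, [true])]),
  (28, [false, false, true, true, true], [(14, [false, true, true, true]), (4, [false, false, true])]),
  (2, [false, true], [(1, [true])]),
  (2, [false, true], [(1, [true])]),
  (2, [false, true], [(1, [true])]),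
  (28, [false, false, true, true, true], [(14, [false, true, true, true]), (4, [false, false, true])])]
def close0 : List (List ℕ) := [[0, 0, 0], [0, 0, 0], [0, 0, 0], [0, 0, 0], [0, 0, 0], [0, 0, 0], [0, 0, 0], [0, 0, 0], [0, 0, 0], [0, 0, 0], [0, 0, 0], [0, 0, 0], [0, 0, 0], [0, 0, 0], [0, 0, 0], [0, 0, 0], [0, 0, 0], [0, 0, 0], [0, 0, 0], [0, 0, 0], [0, 0, 0], [0, 0, 0], [0, 0, 1], [0, 0, 1], [0, 0, 0], [0, 0, 0], [1, 1, 1], [1, 0, 1], [0, 0, 0], [0, 0, 0], [1, 1, 1], [1, 0, 1]]
def close1 : List (List ℕ) := [[0, 1, 0], [0, 0, 0], [1, 1, 1], [1, 1, 1], [0, 1, 0], [0, 0, 0], [1, 1, 1], [1, 1, 1], [1, 1, 0], [1, 1, 0], [1, 1, 1], [1, 1, 1], [1, 1, 1], [1, 1, 1], [1, 1, 1], [1, 1, 1], [1, 1, 1], [1, 1, 1], [1, 1, 1], [1, 1, 1], [1, 1, 1], [1, 1, 1], [1, 1, 1], [1, 1, 1]]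
def par0 : List (ℕ × ℕ) := [(0, 0), (0, 1), (0, 2), (1, 0), (1, 1), (1, 2), (2, 2), (3, 0), (3, 1), (4, 0), (4, 1), (4, 2), (5, 2), (8, 0), (8, 1), (8, 2), (9, 2), (10, 0), (10, 1), (10, 2), (11, 2), (14, 0), (14, 1), (14, 2), (15, 2), (18, 0), (18, 1), (18, 2), (19, 2), (22, 0), (22, 1), (22, 2)]
def par1 : List (ℕ × ℕ) := [(23, 2), (26, 0), (26, 1), (26, 2), (27, 2), (30, 0), (30, 1), (30, 2), (31, 2), (34, 0), (34, 1), (34, 2), (35, 2), (38, 0), (38, 1), (38, 2), (39, 2), (42, 0), (42, 1), (42, 2), (43, 2), (46, 1), (47, 2)]

/-- The data. -/
def data : Data where
  deg := 11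
  gens := [(4794398950247370883, 10522405790713647235), (8179962587367354370, 7008771527743635649), (11602706893046820865, 11602706893046820865)]
  elts := [chunk0, chunk1].flatten
  chunks := [chunk0, chunk1]
  parents := [par0, par1].flatten
  ords := [ords0, ords1].flatten
  closeCert := [close0, close1].flatten

theorem data_ok : chkData data = true := by decide +kernel

theorem vec : countVec data = [1, 30, 1, 32, 30, 7, 32, 32, 42, 7, 32, 56, 42, 56, 56, 56] := by decide +kernel

theorem solv_ok : chkSolv data [[], [[0]], [[0, 0, 0, 0, 0, 0, 0, 0, 0, 0, 0, 0, 0], [1, 0, 0, 0, 0, 0, 0, 0, 0, 0, 0, 0, 0, 0]]] = true := by decide +kernel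

theorem realizes : Realizes Solv [1, 30, 1, 32, 30, 7, 32, 32, 42, 7, 32, 56, 42, 56, 56, 56] :=
  vec ▸ realizes_data data_ok (solvable_of_chk solv_ok)

end CfsgLib.OrderType.G16
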