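import Cfsg.Agent.Lib.OrderType.Products

/-! Data for one factor of the order type example. -/

set_option autoImplicit false
set_option maxRecDepth 100000

namespace CfsgLib.OrderType.G19

def chunk0 : List ℕ := [121592860685802914190550870053925660926016, 83051874518966874645317519790912534753409, 66288872781676860256170222065489049034816, 38804364204422301857201071886056599330880, 44165120261761393958531773393627670143300, 56335718738741279006634192207769693347973, 121592860685802914190550870053576728920258, 49860841794003783003465271968814823649409, 77345350371258341402434422148247273353345, 71984594313919249301103720640738377335173, 109592444940802008639632305719953208652162, 94108352108548355791581719874493211222080, 99469108165887447892912421382064282034500, 104061506151483937041117749731523090473093, 116232104628463822089220168545935728599364, 72237333952729159503635136043332699709573, 121592860685802914190550870053514434850945, 93690828408135639495063270343317552107776, 61175457692771504954174115608026267254982, 88159890937496056544116805895960084111493, 115205775060705590990745489321406346563972, 83051874518966874645317519791044521644291, 66288872781676860256170222065140117029058,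 38804364204422301857201071885707667325122, 44165120261761393958531773393767290638342, 56335718738741279006634192207839503581382, 110536383096221433044286669970344984457345, 105175627038882340942955968462836088439173, 50804779949423207408119636219883021152642, 88412630576305966746648221298964641874309, 82628952148177984945602249908073411916162, 83051874518966874645317519790974828822722]
def chunk1 : List ℕ := [61175457692771504954174115607886764200004, 93690828408135639495063270343519464865795, 77768272742047231102149692031762817888642, 77680482659331908190967831524747666272326, 60928116724337768154839520557499116708164, 66288872781676860256170222065077822959745, 66706396482089576552688671596254472704256, 99221767197453711093577826331406137032902, 99133974559779004625778224964092933443972, 38804364204422301857201071885645373255809, 120654321200759663189093326155197348843776, 45273842478783624457173171772463260893382, 61263250330446211421973716975328867127684, 44165120261761393958531773393697480376709, 56335718738741279006634192208041416339842, 109592444940802008639632305719883400225089, 39742903689465552858658615784374675968256, 88077498288232361867652064680329276825605,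 56335718738741279006634192207909313843456, 115123382411441591590578770166969143394502, 39830693772180571046138498352848746598593, 45191449829519625057006452618015454007684, 121592860685802914190550870053716230168900, 49860841794003783003465271968946810540291, 77345350371258341402434422148379260244227, 71984594313919249301103720640877997858880, 109592444940802008639632305720023018913795, 94108352108548355791581719874144279216322, 99469108165887447892912421382203902529542, 104061506151483937041117749731592900706502, 116232104628463822089220168546075349094406, 72237333952729159503635136043402509942982]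
def chunk2 : List ℕ := [121592860685802914190550870053646421741827, 93690828408135639495063270343379846177089, 61175457692771504954174115608096077517056, 88159890937496056544116805896029894344902, 115205775060705590990745489321685468336321, 55221597851342875104795973476866930770309, 49860841794003783003465271968877117718722, 99221767197453711093577826331266633977924, 66706396482089576552688671596456385462275, 50887170043727213804264658636542594789446, 77345350371258341402434422148309567422658, 45273842478783624457173171772323757838404, 120654321200759663189093326155399261601795, 109510054846498002243487283303158211948614, 71984594313919249301103720640808187596806, 109592444940802008639632305719751295893702, 115123382411441591590578770166829640339524, 39830693772180571046138498352778938171520, 109592444940802008639632305719611792838724, 39742903689465552858658615784576588726275, 88077498288232361867652064680197172494659, 82716742230893307856784110414953140465734, 94108352108548355791581719874081985147009, 99469108165887447892912421382134092267909, 104061506151483937041117749731794813464962, 50804779949423207408119636219813212725569, 104149298789158948232619329037642689945605,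 104061506151483937041117749731662710968576, 66624006387785265432841671241053818081473, 116232104628463822089220168546005538832773, 72237333952729159503635136043604422701442, 82628952148177984945602249908003603489089]
def chunk3 : List ℕ := [56247926101066267815132612901918731149317, 72237333952729159503635136043472320205056, 93773218502439950614910270698926226034881, 93690828408135639495063270343108238790724, 61175457692771504954174115608297990275075, 88159890937496056544116805896231807103362, 115205775060705590990745489321545849647174, 93690828408135639495063270343449654604162, 77768272742047231102149692031693009461569, 77680482659331908190967831524476058886402, 72319726601992854180099877259232144269317, 61175457692771504954174115608158371586369, 88159890937496056544116805896099704606976, 115205775060705590990745489321476156825605, 120566531118044645001613443587131297517761, 71984594313919249301103720640529065853122, 83051874518966874645317519791184140304773, 66288872781676860256170222065279618277700, 38804364204422301857201071885847168573764, 44165120261761393958531773393425874825345, 110536383096221433044286669970476971348227, 105175627038882340942955968462975708962880,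 50804779949423207408119636219952831414275, 88412630576305966746648221299104262398016, 82628952148177984945602249908143222177795, 83051874518966874645317519791114330071364, 61175457692771504954174115607956457021573, 77768272742047231102149692031832628150275, 77680482659331908190967831524545869119811, 60928116724337768154839520557638737203206, 66288872781676860256170222065209809850627, 66706396482089576552688671596316766773569]
def chunk4 : List ℕ := [99221767197453711093577826331475947294976, 99133974559779004625778224964372055216321, 38804364204422301857201071885777360146691, 120654321200759663189093326155259642913089, 45273842478783624457173171772533071155456, 61263250330446211421973716975607988900033, 44165120261761393958531773393837100900416, 56335718738741279006634192208111226601475, 39742903689465552858658615784436970037569, 88077498288232361867652064680127362261250, 56335718738741279006634192207971607912769, 115123382411441591590578770167038953656576, 39830693772180571046138498352639435087877, 45191449829519625057006452618294575780033, 110536383096221433044286669970407278526658, 105175627038882340942955968462905898700806, 50804779949423207408119636219681108394182,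 66624006387785265432841671240984009654400, 50804779949423207408119636219541605339204, 104149298789158948232619329037510585614659, 88412630576305966746648221299034452135942, 82628952148177984945602249907871499157702, 93773218502439950614910270698856417607808, 82628952148177984945602249907731996102724, 56247926101066267815132612901786626818371, 77768272742047231102149692031560905130182, 77680482659331908190967831524887284961473, 120566531118044645001613443587061489090688, 93690828408135639495063270343177931612293, 77768272742047231102149692031421402075204, 77680482659331908190967831524817476534400, 72319726601992854180099877259100039938371]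
def chunk5 : List ℕ := [44165120261761393958531773393557861716227, 60928116724337768154839520557568926941573, 66706396482089576552688671596045159387204, 99221767197453711093577826331677860052995, 99133974559779004625778224964232436527174, 66706396482089576552688671596386575200642, 50887170043727213804264658636270987403522, 99221767197453711093577826331538241364289, 99133974559779004625778224964162743705605, 105175627038882340942955968462626776957122, 120654321200759663189093326154988035526724, 45273842478783624457173171772734983913475, 61263250330446211421973716975468370210886, 120654321200759663189093326155329451340162, 109510054846498002243487283302886604562690, 45273842478783624457173171772595365224769, 61263250330446211421973716975398677389317, 88412630576305966746648221298755330392258, 109592444940802008639632305719681485660293, 39742903689465552858658615784165362651204, 88077498288232361867652064680468779909248, 56335718738741279006634192207700000526404, 115123382411441591590578770167240866414595, 39830693772180571046138498352507330756931, 45191449829519625057006452618154957090886, 39742903689465552858658615784506778464642, 88077498288232361867652064680398969647174,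 82716742230893307856784110414681533079810, 83051874518966874645317519791253950566406, 115123382411441591590578770167101247725889, 39830693772180571046138498352437520523522, 45191449829519625057006452618085264269317]
def chunk6 : List ℕ := [55221597851342875104795973476657619288258, 121592860685802914190550870053855850663942, 49860841794003783003465271969086429200773, 77345350371258341402434422148518878904709, 94108352108548355791581719874283780464964, 99469108165887447892912421381862486716545, 116232104628463822089220168545733933281409, 121592860685802914190550870053786040402309, 55221597851342875104795973477006551294016, 49860841794003783003465271969016618967364, 99221767197453711093577826331336326799493, 50887170043727213804264658636340797636931, 77345350371258341402434422148449068671300, 45273842478783624457173171772393450659973, 109510054846498002243487283302956414796099, 71984594313919249301103720640466771783809, 109592444940802008639632305719821106155776, 115123382411441591590578770166899333161093, 39830693772180571046138498352569624826244, 82716742230893307856784110414751343313219, 94108352108548355791581719874213972037891, 99469108165887447892912421382273712791616,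 104061506151483937041117749731864623726595, 104149298789158948232619329037440775381250, 104061506151483937041117749731725005037889, 66624006387785265432841671240844506570757, 116232104628463822089220168546145159356480, 72237333952729159503635136043674232963075, 56247926101066267815132612901716816584962, 72237333952729159503635136043534614274369, 93773218502439950614910270698716914524165, 88159890937496056544116805896301617364995]
def chunk7 : List ℕ := [115205775060705590990745489321344052494659, 72319726601992854180099877259030229704962, 61175457692771504954174115608228180013442, 88159890937496056544116805896161998676289, 115205775060705590990745489321274242261250, 120566531118044645001613443586921986007045, 71984594313919249301103720640668567101764, 55221597851342875104795973476936741031942, 50887170043727213804264658636682213478593, 66706396482089576552688671596114852208773, 50887170043727213804264658636612405051520, 99469108165887447892912421381994473607427, 109510054846498002243487283303297830637761, 120654321200759663189093326155057728348293, 109510054846498002243487283303228022210688, 116232104628463822089220168545865920172291, 82716742230893307856784110415092759154881,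 39742903689465552858658615784235055472773, 88077498288232361867652064680259466563972, 82716742230893307856784110415022950727808, 60928116724337768154839520557429308281091, 50804779949423207408119636219611298160773, 104149298789158948232619329037782193029248, 104061506151483937041117749731453397651524, 66624006387785265432841671240712402239811, 104149298789158948232619329037712382767174, 49860841794003783003465271969156239462406, 66624006387785265432841671240642592006402, 82628952148177984945602249907801688924293, 56247926101066267815132612902058234232960, 72237333952729159503635136043263006888004, 93773218502439950614910270698584810193219]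
def chunk8 : List ℕ := [56247926101066267815132612901988423970886, 77345350371258341402434422148588689166342, 93773218502439950614910270698514999959810, 93690828408135639495063270343247741845702, 77768272742047231102149692031491094896773, 77680482659331908190967831524608163189124, 72319726601992854180099877259371647352960, 88159890937496056544116805895890391289924, 115205775060705590990745489321615659909248, 120566531118044645001613443586789881676099, 71984594313919249301103720640598758674691, 72319726601992854180099877259301837090886, 110536383096221433044286669970686400270342, 120566531118044645001613443586720071442690, 83051874518966874645317519791323760828480, 66288872781676860256170222065419238772742, 38804364204422301857201071885986789068806, 110536383096221433044286669970616590008709, 60928116724337768154839520557297321390209, 66288872781676860256170222065349428511109, 38804364204422301857201071885916978807173, 44165120261761393958531773393488168894658, 110536383096221433044286669970546779775300, 105175627038882340942955968462564482887809, 50804779949423207408119636219750918656256, 66624006387785265432841671240774696309124, 88412630576305966746648221298693036322945,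 82628952148177984945602249907941309419776, 93773218502439950614910270698647104262532, 77768272742047231102149692031630715392256, 77680482659331908190967831524677973450757, 120566531118044645001613443586852175745412]
def chunk9 : List ℕ := [60928116724337768154839520557708547465280, 99133974559779004625778224964030639374659, 99221767197453711093577826331608049791362, 99133974559779004625778224963960829141250, 105175627038882340942955968462766278205764, 61263250330446211421973716975266573058371, 45273842478783624457173171772665173651842, 61263250330446211421973716975196762824962, 88412630576305966746648221298894831640900, 45191449829519625057006452617953159938371, 115123382411441591590578770167171056152962, 39830693772180571046138498352709127909446, 45191449829519625057006452617883349704962, 55221597851342875104795973476797120536900, 104149298789158948232619329037572879683972, 56247926101066267815132612901848920887684, 72319726601992854180099877259162334007684, 66706396482089576552688671596184662442182, 50887170043727213804264658636403091706244, 99133974559779004625778224964302246789248, 105175627038882340942955968462696469778691, 120654321200759663189093326155127538581702,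 109510054846498002243487283303018708865412, 61263250330446211421973716975538180472960, 88412630576305966746648221298825023213827, 39742903689465552858658615784304865706182, 88077498288232361867652064680538588336321, 82716742230893307856784110414813637382532, 45191449829519625057006452618224767352960, 55221597851342875104795973476727312109827, 49860841794003783003465271969226049724480, 77345350371258341402434422148658499428416]
def chunk10 : List ℕ := [94108352108548355791581719874423400960006, 94108352108548355791581719874353590698373, 99469108165887447892912421381924780785858, 116232104628463822089220168545796227350722, 55221597851342875104795973476595325218945, 50887170043727213804264658636472901967877, 109510054846498002243487283303088519127045, 82716742230893307856784110414883447644165, 66624006387785265432841671240914199392326, 93773218502439950614910270698786607345734, 120566531118044645001613443586991678828614, 104149298789158948232619329037852001456321, 56247926101066267815132612902128042660033, 72319726601992854180099877259441455780033, 110536383096221433044286669970756210532416, 60928116724337768154839520557359615459522]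
def ords0 : List OrdCert := [(1, [true], []),
  (14, [false, true, true, true], [(7, [true, true, true]), (2, [false, true])]),
  (2, [false, true], [(1, [true])]),
  (2, [false, true], [(1, [true])]),
  (14, [false, true, true, true], [(7, [true, true, true]), (2, [false, true])]),
  (3, [true, true], [(1, [true])]),
  (7, [true, true, true], [(1, [true])]),
  (14, [false, true, true, true], [(7, [true, true, true]), (2, [false, true])]),
  (14, [false, true, true, true], [(7, [true, true, true]), (2, [false, true])]),
  (14, [false, true, true, true], [(7, [true, true, true]), (2, [false, true])]),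
  (3, [true, true], [(1, [true])]),
  (2, [false, true], [(1, [true])]),
  (14, [false, true, true, true], [(7, [true, true, true]), (2, [false, true])]),
  (3, [true, true], [(1, [true])]),
  (14, [false, true, true, true], [(7, [true, true, true]), (2, [false, true])]),
  (3, [true, true], [(1, [true])]),
  (7, [true, true, true], [(1, [true])]),
  (3, [true, true], [(1, [true])]),
  (3, [true, true], [(1, [true])]),
  (3, [true, true], [(1, [true])]),
  (3, [true, true], [(1, [true])]),
  (14, [false, true, true, true], [(7, [true, true, true]), (2, [false, true])]),
  (14, [false, true, true, true], [(7, [true, true, true]), (2, [false, true])]),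
  (14, [false, true, true, true], [(7, [true, true, true]), (2, [false, true])]),
  (14, [false, true, true, true], [(7, [true, true, true]), (2, [false, true])]),
  (3, [true, true], [(1, [true])]),
  (14, [false, true, true, true], [(7, [true, true, true]), (2, [false, true])]),
  (14, [false, true, true, true], [(7, [true, true, true]), (2, [false, true])]),
  (3, [true, true], [(1, [true])]),
  (14, [false, true, true, true], [(7, [true, true, true]), (2, [false, true])]),
  (3, [true, true], [(1, [true])]),
  (14, [false, true, true, true], [(7, [true, true, true]), (2, [false, true])])]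
def ords1 : List OrdCert := [(3, [true, true], [(1, [true])]),
  (3, [true, true], [(1, [true])]),
  (3, [true, true], [(1, [true])]),
  (3, [true, true], [(1, [true])]),
  (14, [false, true, true, true], [(7, [true, true, true]), (2, [false, true])]),
  (14, [false, true, true, true], [(7, [true, true, true]), (2, [false, true])]),
  (3, [true, true], [(1, [true])]),
  (3, [true, true], [(1, [true])]),
  (3, [true, true], [(1, [true])]),
  (14, [false, true, true, true], [(7, [true, true, true]), (2, [false, true])]),
  (3, [true, true], [(1, [true])]),
  (3, [true, true], [(1, [true])]),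
  (3, [true, true], [(1, [true])]),
  (14, [false, true, true, true], [(7, [true, true, true]), (2, [false, true])]),
  (3, [true, true], [(1, [true])]),
  (3, [true, true], [(1, [true])]),
  (3, [true, true], [(1, [true])]),
  (3, [true, true], [(1, [true])]),
  (3, [true, true], [(1, [true])]),
  (3, [true, true], [(1, [true])]),
  (3, [true, true], [(1, [true])]),
  (3, [true, true], [(1, [true])]),
  (7, [true, true, true], [(1, [true])]),
  (14, [false, true, true, true], [(7, [true, true, true]), (2, [false, true])]),
  (14, [false, true, true, true], [(7, [true, true, true]), (2, [false, true])]),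
  (2, [false, true], [(1, [true])]),
  (3, [true, true], [(1, [true])]),
  (14, [false, true, true, true], [(7, [true, true, true]), (2, [false, true])]),
  (14, [false, true, true, true], [(7, [true, true, true]), (2, [false, true])]),
  (3, [true, true], [(1, [true])]),
  (14, [false, true, true, true], [(7, [true, true, true]), (2, [false, true])]),
  (3, [true, true], [(1, [true])])]
def ords2 : List OrdCert := [(7, [true, true, true], [(1, [true])]),
  (3, [true, true], [(1, [true])]),
  (3, [true, true], [(1, [true])]),
  (3, [true, true], [(1, [true])]),
  (3, [true, true], [(1, [true])]),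
  (14, [false, true, true, true], [(7, [true, true, true]), (2, [false, true])]),
  (14, [false, true, true, true], [(7, [true, true, true]), (2, [false, true])]),
  (3, [true, true], [(1, [true])]),
  (3, [true, true], [(1, [true])]),
  (3, [true, true], [(1, [true])]),
  (14, [false, true, true, true], [(7, [true, true, true]), (2, [false, true])]),
  (3, [true, true], [(1, [true])]),
  (3, [true, true], [(1, [true])]),
  (3, [true, true], [(1, [true])]),
  (14, [false, true, true, true], [(7, [true, true, true]), (2, [false, true])]),
  (3, [true, true], [(1, [true])]),
  (3, [true, true], [(1, [true])]),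
  (3, [true, true], [(1, [true])]),
  (3, [true, true], [(1, [true])]),
  (3, [true, true], [(1, [true])]),
  (3, [true, true], [(1, [true])]),
  (3, [true, true], [(1, [true])]),
  (14, [false, true, true, true], [(7, [true, true, true]), (2, [false, true])]),
  (14, [false, true, true, true], [(7, [true, true, true]), (2, [false, true])]),
  (3, [true, true], [(1, [true])]),
  (3, [true, true], [(1, [true])]),
  (3, [true, true], [(1, [true])]),
  (3, [true, true], [(1, [true])]),
  (3, [true, true], [(1, [true])]),
  (14, [false, true, true, true], [(7, [true, true, true]), (2, [false, true])]),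
  (3, [true, true], [(1, [true])]),
  (3, [true, true], [(1, [true])])]
def ords3 : List OrdCert := [(3, [true, true], [(1, [true])]),
  (3, [true, true], [(1, [true])]),
  (3, [true, true], [(1, [true])]),
  (3, [true, true], [(1, [true])]),
  (3, [true, true], [(1, [true])]),
  (3, [true, true], [(1, [true])]),
  (3, [true, true], [(1, [true])]),
  (3, [true, true], [(1, [true])]),
  (3, [true, true], [(1, [true])]),
  (3, [true, true], [(1, [true])]),
  (3, [true, true], [(1, [true])]),
  (3, [true, true], [(1, [true])]),
  (3, [true, true], [(1, [true])]),
  (3, [true, true], [(1, [true])]),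
  (3, [true, true], [(1, [true])]),
  (14, [false, true, true, true], [(7, [true, true, true]), (2, [false, true])]),
  (14, [false, true, true, true], [(7, [true, true, true]), (2, [false, true])]),
  (14, [false, true, true, true], [(7, [true, true, true]), (2, [false, true])]),
  (14, [false, true, true, true], [(7, [true, true, true]), (2, [false, true])]),
  (14, [false, true, true, true], [(7, [true, true, true]), (2, [false, true])]),
  (14, [false, true, true, true], [(7, [true, true, true]), (2, [false, true])]),
  (2, [false, true], [(1, [true])]),
  (3, [true, true], [(1, [true])]),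
  (2, [false, true], [(1, [true])]),
  (3, [true, true], [(1, [true])]),
  (14, [false, true, true, true], [(7, [true, true, true]), (2, [false, true])]),
  (3, [true, true], [(1, [true])]),
  (3, [true, true], [(1, [true])]),
  (3, [true, true], [(1, [true])]),
  (14, [false, true, true, true], [(7, [true, true, true]), (2, [false, true])]),
  (14, [false, true, true, true], [(7, [true, true, true]), (2, [false, true])]),
  (3, [true, true], [(1, [true])])]
def ords4 : List OrdCert := [(3, [true, true], [(1, [true])]),
  (3, [true, true], [(1, [true])]),
  (14, [false, true, true, true], [(7, [true, true, true]), (2, [false, true])]),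
  (3, [true, true], [(1, [true])]),
  (3, [true, true], [(1, [true])]),
  (3, [true, true], [(1, [true])]),
  (2, [false, true], [(1, [true])]),
  (3, [true, true], [(1, [true])]),
  (3, [true, true], [(1, [true])]),
  (3, [true, true], [(1, [true])]),
  (3, [true, true], [(1, [true])]),
  (3, [true, true], [(1, [true])]),
  (3, [true, true], [(1, [true])]),
  (3, [true, true], [(1, [true])]),
  (14, [false, true, true, true], [(7, [true, true, true]), (2, [false, true])]),
  (14, [false, true, true, true], [(7, [true, true, true]), (2, [false, true])]),
  (3, [true, true], [(1, [true])]),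
  (3, [true, true], [(1, [true])]),
  (3, [true, true], [(1, [true])]),
  (3, [true, true], [(1, [true])]),
  (14, [false, true, true, true], [(7, [true, true, true]), (2, [false, true])]),
  (3, [true, true], [(1, [true])]),
  (3, [true, true], [(1, [true])]),
  (3, [true, true], [(1, [true])]),
  (3, [true, true], [(1, [true])]),
  (3, [true, true], [(1, [true])]),
  (3, [true, true], [(1, [true])]),
  (3, [true, true], [(1, [true])]),
  (3, [true, true], [(1, [true])]),
  (3, [true, true], [(1, [true])]),
  (3, [true, true], [(1, [true])]),
  (3, [true, true], [(1, [true])])]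
def ords5 : List OrdCert := [(14, [false, true, true, true], [(7, [true, true, true]), (2, [false, true])]),
  (14, [false, true, true, true], [(7, [true, true, true]), (2, [false, true])]),
  (3, [true, true], [(1, [true])]),
  (3, [true, true], [(1, [true])]),
  (3, [true, true], [(1, [true])]),
  (3, [true, true], [(1, [true])]),
  (3, [true, true], [(1, [true])]),
  (3, [true, true], [(1, [true])]),
  (3, [true, true], [(1, [true])]),
  (14, [false, true, true, true], [(7, [true, true, true]), (2, [false, true])]),
  (3, [true, true], [(1, [true])]),
  (3, [true, true], [(1, [true])]),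
  (3, [true, true], [(1, [true])]),
  (3, [true, true], [(1, [true])]),
  (3, [true, true], [(1, [true])]),
  (3, [true, true], [(1, [true])]),
  (3, [true, true], [(1, [true])]),
  (14, [false, true, true, true], [(7, [true, true, true]), (2, [false, true])]),
  (3, [true, true], [(1, [true])]),
  (3, [true, true], [(1, [true])]),
  (3, [true, true], [(1, [true])]),
  (3, [true, true], [(1, [true])]),
  (3, [true, true], [(1, [true])]),
  (3, [true, true], [(1, [true])]),
  (3, [true, true], [(1, [true])]),
  (3, [true, true], [(1, [true])]),
  (3, [true, true], [(1, [true])]),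
  (3, [true, true], [(1, [true])]),
  (14, [false, true, true, true], [(7, [true, true, true]), (2, [false, true])]),
  (3, [true, true], [(1, [true])]),
  (3, [true, true], [(1, [true])]),
  (3, [true, true], [(1, [true])])]
def ords6 : List OrdCert := [(14, [false, true, true, true], [(7, [true, true, true]), (2, [false, true])]),
  (7, [true, true, true], [(1, [true])]),
  (14, [false, true, true, true], [(7, [true, true, true]), (2, [false, true])]),
  (14, [false, true, true, true], [(7, [true, true, true]), (2, [false, true])]),
  (14, [false, true, true, true], [(7, [true, true, true]), (2, [false, true])]),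
  (14, [false, true, true, true], [(7, [true, true, true]), (2, [false, true])]),
  (14, [false, true, true, true], [(7, [true, true, true]), (2, [false, true])]),
  (7, [true, true, true], [(1, [true])]),
  (2, [false, true], [(1, [true])]),
  (14, [false, true, true, true], [(7, [true, true, true]), (2, [false, true])]),
  (3, [true, true], [(1, [true])]),
  (3, [true, true], [(1, [true])]),
  (14, [false, true, true, true], [(7, [true, true, true]), (2, [false, true])]),
  (3, [true, true], [(1, [true])]),
  (3, [true, true], [(1, [true])]),
  (14, [false, true, true, true], [(7, [true, true, true]), (2, [false, true])]),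
  (3, [true, true], [(1, [true])]),
  (3, [true, true], [(1, [true])]),
  (3, [true, true], [(1, [true])]),
  (3, [true, true], [(1, [true])]),
  (14, [false, true, true, true], [(7, [true, true, true]), (2, [false, true])]),
  (2, [false, true], [(1, [true])]),
  (3, [true, true], [(1, [true])]),
  (3, [true, true], [(1, [true])]),
  (3, [true, true], [(1, [true])]),
  (3, [true, true], [(1, [true])]),
  (2, [false, true], [(1, [true])]),
  (3, [true, true], [(1, [true])]),
  (3, [true, true], [(1, [true])]),
  (3, [true, true], [(1, [true])]),
  (3, [true, true], [(1, [true])]),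
  (3, [true, true], [(1, [true])])]
def ords7 : List OrdCert := [(3, [true, true], [(1, [true])]),
  (3, [true, true], [(1, [true])]),
  (3, [true, true], [(1, [true])]),
  (3, [true, true], [(1, [true])]),
  (3, [true, true], [(1, [true])]),
  (3, [true, true], [(1, [true])]),
  (14, [false, true, true, true], [(7, [true, true, true]), (2, [false, true])]),
  (14, [false, true, true, true], [(7, [true, true, true]), (2, [false, true])]),
  (3, [true, true], [(1, [true])]),
  (3, [true, true], [(1, [true])]),
  (3, [true, true], [(1, [true])]),
  (14, [false, true, true, true], [(7, [true, true, true]), (2, [false, true])]),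
  (3, [true, true], [(1, [true])]),
  (3, [true, true], [(1, [true])]),
  (3, [true, true], [(1, [true])]),
  (14, [false, true, true, true], [(7, [true, true, true]), (2, [false, true])]),
  (3, [true, true], [(1, [true])]),
  (3, [true, true], [(1, [true])]),
  (3, [true, true], [(1, [true])]),
  (3, [true, true], [(1, [true])]),
  (14, [false, true, true, true], [(7, [true, true, true]), (2, [false, true])]),
  (3, [true, true], [(1, [true])]),
  (3, [true, true], [(1, [true])]),
  (3, [true, true], [(1, [true])]),
  (3, [true, true], [(1, [true])]),
  (3, [true, true], [(1, [true])]),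
  (14, [false, true, true, true], [(7, [true, true, true]), (2, [false, true])]),
  (3, [true, true], [(1, [true])]),
  (3, [true, true], [(1, [true])]),
  (3, [true, true], [(1, [true])]),
  (3, [true, true], [(1, [true])]),
  (3, [true, true], [(1, [true])])]
def ords8 : List OrdCert := [(3, [true, true], [(1, [true])]),
  (14, [false, true, true, true], [(7, [true, true, true]), (2, [false, true])]),
  (3, [true, true], [(1, [true])]),
  (3, [true, true], [(1, [true])]),
  (3, [true, true], [(1, [true])]),
  (3, [true, true], [(1, [true])]),
  (3, [true, true], [(1, [true])]),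
  (3, [true, true], [(1, [true])]),
  (3, [true, true], [(1, [true])]),
  (3, [true, true], [(1, [true])]),
  (14, [false, true, true, true], [(7, [true, true, true]), (2, [false, true])]),
  (3, [true, true], [(1, [true])]),
  (14, [false, true, true, true], [(7, [true, true, true]), (2, [false, true])]),
  (3, [true, true], [(1, [true])]),
  (2, [false, true], [(1, [true])]),
  (14, [false, true, true, true], [(7, [true, true, true]), (2, [false, true])]),
  (14, [false, true, true, true], [(7, [true, true, true]), (2, [false, true])]),
  (14, [false, true, true, true], [(7, [true, true, true]), (2, [false, true])]),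
  (14, [false, true, true, true], [(7, [true, true, true]), (2, [false, true])]),
  (14, [false, true, true, true], [(7, [true, true, true]), (2, [false, true])]),
  (14, [false, true, true, true], [(7, [true, true, true]), (2, [false, true])]),
  (14, [false, true, true, true], [(7, [true, true, true]), (2, [false, true])]),
  (14, [false, true, true, true], [(7, [true, true, true]), (2, [false, true])]),
  (14, [false, true, true, true], [(7, [true, true, true]), (2, [false, true])]),
  (3, [true, true], [(1, [true])]),
  (3, [true, true], [(1, [true])]),
  (14, [false, true, true, true], [(7, [true, true, true]), (2, [false, true])]),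
  (3, [true, true], [(1, [true])]),
  (3, [true, true], [(1, [true])]),
  (3, [true, true], [(1, [true])]),
  (3, [true, true], [(1, [true])]),
  (3, [true, true], [(1, [true])])]
def ords9 : List OrdCert := [(2, [false, true], [(1, [true])]),
  (3, [true, true], [(1, [true])]),
  (3, [true, true], [(1, [true])]),
  (3, [true, true], [(1, [true])]),
  (14, [false, true, true, true], [(7, [true, true, true]), (2, [false, true])]),
  (3, [true, true], [(1, [true])]),
  (3, [true, true], [(1, [true])]),
  (3, [true, true], [(1, [true])]),
  (14, [false, true, true, true], [(7, [true, true, true]), (2, [false, true])]),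
  (3, [true, true], [(1, [true])]),
  (3, [true, true], [(1, [true])]),
  (3, [true, true], [(1, [true])]),
  (3, [true, true], [(1, [true])]),
  (14, [false, true, true, true], [(7, [true, true, true]), (2, [false, true])]),
  (3, [true, true], [(1, [true])]),
  (3, [true, true], [(1, [true])]),
  (3, [true, true], [(1, [true])]),
  (3, [true, true], [(1, [true])]),
  (3, [true, true], [(1, [true])]),
  (3, [true, true], [(1, [true])]),
  (14, [false, true, true, true], [(7, [true, true, true]), (2, [false, true])]),
  (3, [true, true], [(1, [true])]),
  (3, [true, true], [(1, [true])]),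
  (3, [true, true], [(1, [true])]),
  (14, [false, true, true, true], [(7, [true, true, true]), (2, [false, true])]),
  (3, [true, true], [(1, [true])]),
  (3, [true, true], [(1, [true])]),
  (3, [true, true], [(1, [true])]),
  (3, [true, true], [(1, [true])]),
  (14, [false, true, true, true], [(7, [true, true, true]), (2, [false, true])]),
  (2, [false, true], [(1, [true])]),
  (2, [false, true], [(1, [true])])]
def ords10 : List OrdCert := [(14, [false, true, true, true], [(7, [true, true, true]), (2, [false, true])]),
  (14, [false, true, true, true], [(7, [true, true, true]), (2, [false, true])]),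
  (14, [false, true, true, true], [(7, [true, true, true]), (2, [false, true])]),
  (14, [false, true, true, true], [(7, [true, true, true]), (2, [false, true])]),
  (14, [false, true, true, true], [(7, [true, true, true]), (2, [false, true])]),
  (3, [true, true], [(1, [true])]),
  (3, [true, true], [(1, [true])]),
  (3, [true, true], [(1, [true])]),
  (3, [true, true], [(1, [true])]),
  (3, [true, true], [(1, [true])]),
  (3, [true, true], [(1, [true])]),
  (3, [true, true], [(1, [true])]),
  (3, [true, true], [(1, [true])]),
  (3, [true, true], [(1, [true])]),
  (2, [false, true], [(1, [true])]),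
  (14, [false, true, true, true], [(7, [true, true, true]), (2, [false, true])])]
def close0 : List (List ℕ) := [[0, 0, 0, 0, 0], [0, 0, 0, 0, 0], [0, 0, 0, 0, 0], [0, 0, 0, 0, 0], [0, 0, 0, 0, 0], [0, 0, 0, 0, 0], [0, 0, 0, 0, 0], [0, 0, 0, 0, 0], [0, 0, 0, 0, 0], [0, 0, 0, 0, 1], [1, 1, 0, 0, 1], [0, 0, 0, 1, 0], [0, 0, 1, 1, 1], [1, 0, 0, 0, 1], [0, 1, 0, 1, 1], [1, 0, 0, 0, 1], [0, 1, 1, 1, 1], [1, 1, 1, 1, 1], [1, 1, 1, 1, 1], [1, 0, 0, 1, 1], [1, 1, 1, 1, 0], [1, 1, 1, 1, 1], [1, 0, 1, 1, 1], [1, 1, 0, 1, 1], [1, 1, 1, 2, 2], [2, 2, 1, 1, 2], [1, 0, 0, 2, 1], [1, 0, 2, 2, 2], [2, 0, 0, 1, 2], [1, 2, 0, 2, 2], [2, 0, 1, 1, 2], [2, 2, 2, 2, 2]]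
def close1 : List (List ℕ) := [[0, 2, 2, 2, 2], [2, 2, 2, 2, 2], [2, 0, 0, 2, 2], [2, 2, 2, 2, 0], [2, 0, 0, 2, 1], [2, 0, 2, 2, 2], [2, 1, 0, 2, 2], [2, 1, 0, 2, 2], [2, 1, 1, 2, 0], [2, 2, 0, 2, 2], [2, 1, 1, 2, 3], [3, 1, 1, 2, 3], [3, 0, 1, 3, 0], [2, 2, 2, 0, 3], [3, 3, 2, 2, 3], [3, 3, 2, 0, 3], [3, 0, 1, 2, 3], [3, 3, 3, 3, 0], [3, 3, 2, 2, 3], [3, 0, 1, 2, 3], [3, 3, 3, 3, 3], [3, 1, 0, 3, 0], [3, 3, 3, 3, 1], [3, 0, 3, 3, 3], [3, 3, 0, 3, 3], [3, 3, 3, 3, 3], [3, 3, 3, 1, 3], [3, 0, 0, 3, 2], [3, 0, 3, 3, 3], [4, 1, 0, 3, 4], [3, 3, 0, 4, 4], [4, 1, 2, 3, 4]]
def close2 : List (List ℕ) := [[3, 3, 4, 4, 4], [0, 4, 3, 3, 4], [4, 4, 4, 3, 4], [4, 0, 1, 3, 4], [4, 4, 4, 4, 0], [3, 0, 0, 4, 2], [3, 0, 4, 4, 4], [0, 2, 1, 3, 4], [4, 2, 1, 4, 4], [4, 2, 2, 4, 0], [4, 4, 0, 4, 4], [0, 2, 2, 4, 4], [4, 2, 2, 4, 4], [4, 1, 2, 4, 0], [4, 4, 4, 0, 3], [0, 4, 4, 4, 4], [0, 1, 2, 4, 4], [4, 4, 4, 0, 0], [4, 4, 4, 4, 4], [4, 1, 2, 4, 4], [0, 4, 4, 4, 5], [4, 2, 1, 4, 0], [4, 1, 1, 5, 3], [4, 1, 5, 0, 5], [5, 2, 1, 4, 5], [5, 2, 1, 0, 5], [5, 3, 3, 5, 0], [5, 3, 1, 4, 5], [5, 3, 3, 5, 5], [4, 5, 1, 0, 5], [5, 2, 3, 4, 5], [5, 2, 3, 0, 5]]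
def close3 : List (List ℕ) := [[5, 1, 2, 5, 0], [5, 2, 3, 4, 5], [5, 1, 2, 5, 5], [5, 5, 5, 3, 5], [5, 5, 5, 0, 5], [5, 1, 2, 4, 5], [5, 5, 5, 5, 0], [1, 5, 5, 0, 5], [5, 1, 2, 0, 5], [5, 5, 5, 5, 5], [5, 2, 1, 5, 1], [1, 5, 5, 4, 5], [5, 1, 3, 4, 5], [5, 5, 5, 5, 1], [5, 2, 1, 5, 6], [5, 5, 5, 5, 0], [6, 6, 6, 3, 2], [6, 1, 6, 6, 2], [6, 6, 1, 6, 3], [3, 6, 6, 6, 3], [6, 1, 1, 6, 3], [6, 1, 6, 6, 6], [5, 3, 1, 2, 6], [6, 6, 1, 6, 6], [5, 3, 3, 3, 6], [6, 6, 6, 6, 6], [0, 6, 6, 3, 6], [5, 1, 3, 3, 6], [6, 6, 6, 5, 0], [6, 1, 1, 6, 4], [6, 2, 6, 6, 6], [0, 4, 2, 6, 6]]
def close4 : List (List ℕ) := [[6, 4, 2, 5, 6], [6, 4, 4, 6, 0], [6, 6, 2, 6, 6], [0, 3, 4, 6, 6], [6, 4, 4, 5, 6], [6, 2, 4, 6, 0], [6, 6, 6, 1, 4], [1, 6, 6, 6, 7], [1, 2, 4, 6, 7], [7, 6, 7, 1, 0], [7, 7, 6, 5, 7], [7, 2, 4, 5, 7], [1, 6, 7, 7, 7], [7, 4, 2, 7, 1], [6, 2, 2, 7, 4], [6, 2, 7, 1, 5], [1, 4, 2, 6, 7], [7, 4, 4, 1, 0], [7, 4, 2, 6, 7], [1, 4, 4, 7, 7], [6, 7, 2, 1, 5], [1, 4, 4, 6, 7], [7, 2, 4, 1, 0], [7, 4, 4, 6, 7], [1, 2, 4, 7, 7], [1, 2, 4, 6, 7], [5, 7, 7, 1, 0], [7, 4, 2, 1, 2], [2, 7, 7, 7, 7], [7, 2, 4, 7, 7], [1, 7, 7, 7, 3], [1, 4, 2, 7, 7]]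
def close5 : List (List ℕ) := [[7, 7, 7, 0, 1], [7, 2, 2, 1, 5], [7, 5, 3, 5, 7], [7, 5, 3, 1, 7], [7, 5, 5, 7, 1], [3, 5, 3, 1, 7], [7, 5, 5, 7, 7], [2, 5, 3, 7, 7], [7, 5, 5, 7, 3], [7, 3, 6, 7, 1], [7, 5, 5, 5, 7], [7, 5, 5, 1, 7], [7, 3, 5, 7, 1], [3, 5, 5, 1, 8], [7, 3, 5, 8, 8], [2, 5, 5, 7, 8], [8, 3, 5, 8, 3], [7, 6, 3, 8, 1], [8, 8, 7, 1, 8], [8, 3, 5, 5, 8], [2, 7, 8, 8, 1], [3, 8, 7, 1, 8], [8, 3, 5, 1, 8], [8, 7, 8, 8, 8], [8, 5, 3, 8, 2], [3, 3, 5, 1, 8], [8, 8, 8, 3, 3], [8, 5, 3, 8, 8], [0, 7, 8, 8, 1], [3, 3, 5, 7, 8], [3, 8, 8, 3, 2], [8, 5, 3, 8, 6]]
def close6 : List (List ℕ) := [[7, 5, 5, 8, 1], [8, 8, 8, 5, 4], [8, 3, 8, 5, 4], [8, 8, 3, 5, 4], [8, 3, 3, 8, 3], [5, 3, 8, 8, 5], [5, 8, 3, 8, 5], [5, 8, 8, 8, 5], [8, 3, 3, 8, 6], [8, 3, 8, 8, 8], [1, 6, 3, 5, 8], [8, 6, 6, 7, 1], [8, 8, 3, 8, 8], [1, 6, 6, 5, 8], [8, 3, 6, 7, 1], [8, 8, 8, 3, 7], [2, 8, 8, 5, 8], [2, 3, 6, 5, 8], [8, 8, 8, 2, 1], [8, 6, 3, 8, 3], [8, 4, 3, 9, 6], [8, 4, 9, 3, 7], [2, 6, 4, 8, 9], [9, 7, 6, 2, 1], [9, 6, 4, 7, 9], [2, 7, 6, 9, 9], [8, 9, 4, 3, 7], [2, 6, 6, 8, 9], [9, 4, 6, 2, 1], [9, 6, 7, 7, 9], [2, 4, 6, 9, 9], [2, 4, 6, 8, 9]]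
def close7 : List (List ℕ) := [[7, 9, 9, 2, 2], [9, 6, 4, 2, 3], [4, 9, 9, 8, 9], [9, 4, 6, 8, 9], [2, 9, 9, 9, 6], [2, 6, 4, 9, 9], [1, 9, 9, 0, 2], [9, 4, 4, 3, 5], [7, 7, 7, 2, 2], [4, 7, 4, 9, 9], [2, 7, 7, 9, 6], [9, 5, 7, 0, 2], [8, 4, 7, 3, 2], [4, 7, 7, 9, 9], [3, 4, 7, 9, 6], [9, 7, 5, 0, 2], [8, 7, 4, 3, 4], [4, 4, 7, 9, 9], [3, 9, 9, 4, 4], [3, 7, 4, 9, 8], [9, 7, 7, 0, 2], [9, 7, 5, 2, 9], [4, 8, 7, 9, 2], [6, 7, 5, 2, 9], [9, 8, 7, 9, 9], [9, 8, 8, 6, 6], [0, 5, 8, 9, 2], [6, 8, 8, 5, 4], [9, 7, 8, 2, 9], [4, 5, 7, 9, 2], [6, 7, 8, 2, 9], [9, 5, 7, 9, 9]]
def close8 : List (List ℕ) := [[9, 5, 7, 6, 6], [0, 8, 5, 9, 2], [6, 5, 7, 5, 4], [6, 9, 9, 3, 9], [9, 5, 7, 3, 9], [4, 9, 9, 9, 8], [4, 7, 5, 9, 5], [6, 5, 7, 3, 9], [9, 9, 9, 6, 6], [9, 7, 5, 9, 9], [0, 9, 9, 8, 3], [9, 7, 5, 6, 8], [0, 8, 7, 9, 3], [6, 7, 5, 5, 7], [0, 9, 9, 7, 5], [9, 6, 10, 7, 6], [9, 10, 6, 7, 6], [10, 6, 6, 6, 4], [6, 6, 6, 10, 5], [7, 6, 10, 10, 7], [8, 10, 6, 10, 7], [8, 10, 10, 6, 8], [10, 6, 6, 10, 8], [10, 6, 10, 6, 9], [3, 8, 6, 7, 10], [10, 8, 8, 4, 3], [10, 10, 6, 6, 9], [4, 8, 8, 7, 10], [10, 6, 8, 4, 3], [4, 6, 8, 8, 10], [9, 10, 10, 4, 3], [10, 8, 6, 4,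 6]]
def close9 : List (List ℕ) := [[10, 6, 6, 6, 7], [9, 9, 9, 4, 3], [6, 9, 7, 9, 10], [4, 9, 9, 10, 8], [2, 7, 9, 0, 4], [9, 7, 9, 4, 4], [6, 9, 9, 9, 10], [4, 7, 9, 10, 8], [2, 9, 7, 0, 4], [9, 9, 7, 4, 6], [6, 7, 9, 9, 10], [4, 10, 10, 7, 6], [4, 9, 7, 10, 10], [5, 9, 9, 0, 4], [5, 9, 9, 7, 6], [5, 7, 9, 7, 6], [5, 9, 7, 7, 9], [8, 9, 8, 5, 10], [6, 9, 9, 10, 9], [10, 9, 9, 8, 8], [0, 8, 9, 9, 5], [8, 9, 9, 5, 10], [6, 8, 9, 10, 9], [10, 8, 9, 8, 8], [0, 9, 8, 9, 5], [8, 8, 9, 5, 10], [7, 10, 10, 8, 8], [7, 9, 8, 10, 10], [10, 9, 8, 8, 10], [1, 9, 9, 10, 5], [1, 8, 10, 9, 7], [1, 10, 8, 9, 7]]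
def close10 : List (List ℕ) := [[10, 8, 8, 7, 7], [8, 8, 8, 10, 8], [9, 8, 10, 8, 9], [9, 10, 8, 8, 9], [10, 8, 8, 8, 9], [10, 10, 10, 6, 6], [10, 8, 10, 6, 6], [10, 10, 8, 7, 8], [7, 10, 10, 9, 8], [7, 9, 10, 9, 8], [7, 10, 9, 9, 10], [9, 10, 10, 10, 10], [9, 9, 10, 10, 10], [9, 10, 9, 10, 10], [2, 9, 9, 9, 8], [9, 10, 10, 10, 9]]
def par0 : List (ℕ × ℕ) := [(0, 0), (0, 1), (0, 2), (0, 3), (0, 4), (1, 0), (1, 1), (1, 2), (1, 3), (1, 4), (2, 2), (2, 3), (2, 4), (3, 3), (3, 4), (4, 3), (4, 4), (5, 0), (5, 1), (5, 4), (6, 0), (6, 1), (6, 2), (6, 3), (6, 4), (7, 2), (7, 3), (7, 4), (8, 3), (8, 4), (9, 3), (9, 4)]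
def par1 : List (ℕ × ℕ) := [(10, 0), (10, 1), (10, 4), (11, 3), (12, 3), (12, 4), (13, 0), (13, 4), (14, 3), (14, 4), (15, 0), (15, 4), (16, 3), (16, 4), (17, 0), (17, 1), (17, 4), (18, 0), (18, 1), (18, 4), (19, 4), (21, 0), (21, 1), (21, 2), (21, 3), (21, 4), (22, 2), (22, 3), (22, 4), (23, 3), (23, 4), (24, 3)]
def par2 : List (ℕ × ℕ) := [(24, 4), (25, 0), (25, 1), (25, 4), (26, 3), (27, 3), (27, 4), (28, 0), (28, 4), (29, 3), (29, 4), (30, 0), (30, 4), (31, 3), (31, 4), (32, 1), (32, 4), (33, 0), (33, 1), (33, 4), (34, 4), (36, 3), (37, 3), (37, 4), (38, 0), (38, 4), (39, 0), (39, 4), (41, 3), (41, 4), (42, 0), (42, 4)]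
def par3 : List (ℕ × ℕ) := [(43, 0), (43, 4), (45, 4), (46, 0), (46, 1), (46, 4), (47, 0), (47, 1), (47, 4), (48, 4), (50, 0), (50, 1), (50, 4), (51, 4), (52, 4), (54, 0), (54, 1), (54, 2), (54, 3), (55, 2), (55, 3), (55, 4), (56, 3), (56, 4), (57, 3), (57, 4), (58, 1), (58, 4), (59, 3), (60, 3), (60, 4), (61, 0)]
def par4 : List (ℕ × ℕ) := [(61, 4), (62, 3), (62, 4), (63, 0), (63, 4), (64, 3), (64, 4), (65, 1), (65, 4), (66, 0), (66, 1), (66, 4), (67, 4), (69, 3), (70, 3), (70, 4), (71, 4), (72, 0), (72, 4), (74, 3), (74, 4), (75, 4), (76, 0), (76, 4), (79, 1), (79, 4), (80, 4), (82, 0), (82, 1), (82, 4), (83, 4), (84, 4)]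
def par5 : List (ℕ × ℕ) := [(86, 3), (87, 4), (88, 0), (88, 4), (89, 0), (89, 4), (91, 0), (91, 4), (92, 4), (93, 4), (94, 0), (94, 4), (95, 0), (95, 4), (97, 0), (97, 4), (98, 4), (99, 0), (99, 1), (99, 4), (100, 0), (100, 1), (100, 4), (101, 4), (103, 1), (103, 4), (104, 4), (105, 4), (107, 1), (107, 4), (108, 4), (110, 4)]
def par6 : List (ℕ × ℕ) := [(112, 0), (112, 1), (112, 2), (113, 2), (113, 3), (114, 3), (115, 3), (116, 3), (117, 3), (117, 4), (118, 4), (119, 3), (119, 4), (120, 4), (121, 3), (121, 4), (122, 1), (122, 4), (123, 4), (125, 3), (126, 3), (126, 4), (127, 4), (128, 0), (128, 4), (130, 3), (130, 4), (131, 4), (132, 0), (132, 4), (135, 1), (135, 4)]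
def par7 : List (ℕ × ℕ) := [(136, 4), (138, 0), (138, 1), (138, 4), (139, 4), (140, 4), (142, 3), (144, 4), (146, 0), (146, 4), (147, 4), (149, 4), (151, 0), (151, 4), (152, 4), (153, 4), (156, 1), (156, 4), (157, 4), (159, 4), (162, 0), (162, 4), (163, 0), (163, 4), (165, 4), (166, 4), (167, 4), (170, 0), (170, 4), (171, 0), (171, 4), (173, 4)]
def par8 : List (ℕ × ℕ) := [(174, 4), (175, 4), (178, 0), (178, 1), (178, 4), (179, 4), (181, 1), (181, 4), (182, 4), (183, 4), (185, 4), (187, 4), (189, 4), (193, 0), (193, 1), (193, 2), (194, 2), (196, 3), (197, 3), (198, 3), (199, 3), (200, 3), (201, 3), (201, 4), (202, 4), (204, 3), (204, 4), (205, 4), (208, 1), (208, 4), (209, 4), (212, 3)]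
def par9 : List (ℕ × ℕ) := [(214, 4), (216, 0), (216, 4), (217, 4), (219, 4), (221, 0), (221, 4), (222, 4), (223, 4), (226, 1), (226, 4), (227, 4), (229, 4), (233, 4), (237, 4), (241, 4), (245, 0), (245, 4), (247, 4), (248, 4), (252, 0), (252, 4), (254, 4), (255, 4), (259, 1), (259, 4), (260, 4), (263, 4), (265, 4), (270, 1), (270, 2), (271, 2)]
def par10 : List (ℕ × ℕ) := [(274, 3), (275, 3), (276, 3), (278, 3), (280, 4), (283, 4), (285, 4), (290, 4), (294, 4), (298, 4), (305, 4), (309, 4), (313, 4), (315, 4), (321, 3)]

/-- The data. -/
def data : Data where
  deg := 23
  gens := [(83051874518966874645317519790912534753409, 83051874518966874645317519791253950566406), (66288872781676860256170222065489049034816, 66288872781676860256170222065489049034816), (38804364204422301857201071886056599330880, 38804364204422301857201071886056599330880), (44165120261761393958531773393627670143300, 44165120261761393958531773393557861716227), (56335718738741279006634192207769693347973, 115205775060705590990745489321406346563972)]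
  elts := [chunk0, chunk1, chunk2, chunk3, chunk4, chunk5, chunk6, chunk7, chunk8, chunk9, chunk10].flatten
  chunks := [chunk0, chunk1, chunk2, chunk3, chunk4, chunk5, chunk6, chunk7, chunk8, chunk9, chunk10]
  parents := [par0, par1, par2, par3, par4, par5, par6, par7, par8, par9, par10].flatten
  ords := [ords0, ords1, ords2, ords3, ords4, ords5, ords6, ords7, ords8, ords9, ords10].flatten
  closeCert := [close0, close1, close2, close3, close4, close5, close6, close7, close8, close9, close10].flatten

theorem data_ok : chkData data = true := by decide +kernel

theorem vec : countVec data = [1, 16, 225, 16, 240, 7, 16, 240, 112, 231, 240, 112, 336, 112, 336, 336] := by decide +kernel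

theorem solv_ok : chkSolv data [[], [[0]], [[0], [1]], [[0], [1], [2]], [[3], [2], [2, 1], [3, 0, 0, 0, 0, 0]]] = true := by decide +kernel

theorem realizes : Realizes Solv [1, 16, 225, 16, 240, 7, 16, 240, 112, 231, 240, 112, 336, 112, 336, 336] :=
  vec ▸ realizes_data data_ok (solvable_of_chk solv_ok)

end CfsgLib.OrderType.G19
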