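import Cfsg.Agent.Lib.OrderType.Products

/-! Data for one factor of the order type example. -/

set_option autoImplicit false
set_option maxRecDepth 100000

namespace CfsgLib.OrderType.G20

def chunk0 : List ℕ := [11693627636546543680, 9351183952280293507, 10522405790713905346, 8217143255926579267, 7008771527743905856, 8179962587367616513, 10557585836663902336, 9351183952281083968, 9388334315550814210, 5874700052580798592, 7045921891013886145, 4794398950247370883, 5839520006630801602, 4703478206747910211, 7008771527743115395, 11602706893046808769, 8179962587367342274, 10557585836663119939, 8217143255927361664, 11602706893046292547, 4703478206748176386, 5839520006630543491, 5874700052580016195, 4794398950247903233, 10522405790714437696, 11693627636546285569, 7045921891014152320, 4794398950248161344, 5874700052580282370, 5839520006631075841, 4703478206748692608, 11602706893046558722]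
def chunk1 : List ℕ := [9388334315551064257, 7045921891013636098, 11693627636545753219, 9388334315551330432, 10557585836663636161, 8179962587367874624, 11602706893047074944, 7008771527743373506, 4703478206748426433, 5839520006631333952, 8179962587367084163, 9351183952280551618, 9388334315550548035, 10522405790713647235, 8217143255927095489, 11693627636546011330, 7045921891013369923, 5874700052580532417, 10522405790714179585, 4794398950247628994, 8217143255926845442, 9351183952280825857, 10557585836663386114, 7008771527743647745]
def ords0 : List OrdCert := [(1, [true], []),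
  (14, [false, true, true, true], [(7, [true, true, true]), (2, [false, true])]),
  (14, [false, true, true, true], [(7, [true, true, true]), (2, [false, true])]),
  (2, [false, true], [(1, [true])]),
  (7, [true, true, true], [(1, [true])]),
  (14, [false, true, true, true], [(7, [true, true, true]), (2, [false, true])]),
  (2, [false, true], [(1, [true])]),
  (7, [true, true, true], [(1, [true])]),
  (4, [false, false, true], [(2, [false, true])]),
  (2, [false, true], [(1, [true])]),
  (4, [false, false, true], [(2, [false, true])]),
  (14, [false, true, true, true], [(7, [true, true, true]), (2, [false, true])]),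
  (14, [false, true, true, true], [(7, [true, true, true]), (2, [false, true])]),
  (2, [false, true], [(1, [true])]),
  (14, [false, true, true, true], [(7, [true, true, true]), (2, [false, true])]),
  (4, [false, false, true], [(2, [false, true])]),
  (14, [false, true, true, true], [(7, [true, true, true]), (2, [false, true])]),
  (2, [false, true], [(1, [true])]),
  (2, [false, true], [(1, [true])]),
  (2, [false, true], [(1, [true])]),
  (4, [false, false, true], [(2, [false, true])]),
  (14, [false, true, true, true], [(7, [true, true, true]), (2, [false, true])]),
  (2, [false, true], [(1, [true])]),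
  (14, [false, true, true, true], [(7, [true, true, true]), (2, [false, true])]),
  (7, [true, true, true], [(1, [true])]),
  (2, [false, true], [(1, [true])]),
  (2, [false, true], [(1, [true])]),
  (7, [true, true, true], [(1, [true])]),
  (4, [false, false, true], [(2, [false, true])]),
  (14, [false, true, true, true], [(7, [true, true, true]), (2, [false, true])]),
  (2, [false, true], [(1, [true])]),
  (4, [false, false, true], [(2, [false, true])])]
def ords1 : List OrdCert := [(4, [false, false, true], [(2, [false, true])]),
  (4, [false, false, true], [(2, [false, true])]),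
  (2, [false, true], [(1, [true])]),
  (2, [false, true], [(1, [true])]),
  (4, [false, false, true], [(2, [false, true])]),
  (7, [true, true, true], [(1, [true])]),
  (2, [false, true], [(1, [true])]),
  (14, [false, true, true, true], [(7, [true, true, true]), (2, [false, true])]),
  (4, [false, false, true], [(2, [false, true])]),
  (7, [true, true, true], [(1, [true])]),
  (14, [false, true, true, true], [(7, [true, true, true]), (2, [false, true])]),
  (14, [false, true, true, true], [(7, [true, true, true]), (2, [false, true])]),
  (2, [false, true], [(1, [true])]),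
  (14, [false, true, true, true], [(7, [true, true, true]), (2, [false, true])]),
  (4, [false, false, true], [(2, [false, true])]),
  (2, [false, true], [(1, [true])]),
  (2, [false, true], [(1, [true])]),
  (4, [false, false, true], [(2, [false, true])]),
  (14, [false, true, true, true], [(7, [true, true, true]), (2, [false, true])]),
  (14, [false, true, true, true], [(7, [true, true, true]), (2, [false, true])]),
  (4, [false, false, true], [(2, [false, true])]),
  (14, [false, true, true, true], [(7, [true, true, true]), (2, [false, true])]),
  (4, [false, false, true], [(2, [false, true])]),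
  (14, [false, true, true, true], [(7, [true, true, true]), (2, [false, true])])]
def close0 : List (List ℕ) := [[0, 0, 0], [0, 0, 0], [0, 0, 0], [0, 0, 0], [0, 0, 0], [0, 0, 0], [0, 0, 0], [0, 0, 0], [0, 0, 0], [0, 0, 0], [0, 0, 0], [0, 0, 0], [0, 0, 0], [0, 0, 0], [0, 0, 0], [0, 0, 0], [0, 0, 0], [0, 1, 0], [0, 1, 1], [1, 1, 1], [1, 1, 1], [0, 0, 0], [1, 1, 1], [0, 1, 0], [1, 1, 1], [1, 1, 1], [0, 0, 0], [1, 1, 1], [0, 0, 0], [1, 0, 1], [0, 0, 0], [1, 0, 0]]
def close1 : List (List ℕ) := [[1, 0, 1], [1, 0, 1], [0, 1, 0], [1, 1, 1], [1, 1, 1], [0, 1, 0], [1, 1, 1], [0, 1, 0], [1, 0, 1], [1, 1, 0], [1, 1, 1], [1, 1, 1], [0, 1, 0], [1, 1, 1], [0, 1, 0], [1, 0, 1], [0, 1, 0], [0, 0, 0], [0, 0, 1], [1, 0, 1], [1, 0, 1], [1, 1, 1], [1, 1, 1], [1, 0, 1]]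
def par0 : List (ℕ × ℕ) := [(0, 0), (0, 1), (0, 2), (1, 0), (1, 1), (1, 2), (2, 1), (2, 2), (3, 0), (3, 1), (4, 0), (4, 1), (4, 2), (5, 1), (5, 2), (7, 1), (7, 2), (8, 1), (9, 0), (9, 1), (9, 2), (10, 1), (10, 2), (11, 0), (11, 1), (11, 2), (12, 1), (12, 2), (14, 1), (14, 2), (16, 2), (17, 1)]
def par1 : List (ℕ × ℕ) := [(18, 1), (18, 2), (19, 0), (19, 1), (19, 2), (20, 1), (20, 2), (22, 1), (22, 2), (24, 0), (24, 1), (24, 2), (25, 1), (25, 2), (27, 1), (27, 2), (29, 2), (32, 2), (33, 2), (35, 1), (36, 2), (38, 1), (40, 2)]

/-- The data. -/
def data : Data where
  deg := 11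
  gens := [(9351183952280293507, 5839520006630543491), (10522405790713905346, 4794398950247628994), (8217143255926579267, 8217143255926579267)]
  elts := [chunk0, chunk1].flatten
  chunks := [chunk0, chunk1]
  parents := [par0, par1].flatten
  ords := [ords0, ords1].flatten
  closeCert := [close0, close1].flatten

theorem data_ok : chkData data = true := by decide +kernel

theorem vec : countVec data = [1, 18, 1, 32, 18, 7, 32, 32, 42, 7, 32, 56, 42, 56, 56, 56] := by decide +kernel

theorem solv_ok : chkSolv data [[], [[0]], [[1, 1, 0, 0, 0, 0, 0], [1, 1, 1, 0, 0, 0, 0, 0]]] = true := by decide +kernel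

theorem realizes : Realizes Solv [1, 18, 1, 32, 18, 7, 32, 32, 42, 7, 32, 56, 42, 56, 56, 56] :=
  vec ▸ realizes_data data_ok (solvable_of_chk solv_ok)

end CfsgLib.OrderType.G20
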