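import Cfsg.Agent.Lib.OrderType.Products

/-! Data for one factor of the order type example. -/

set_option autoImplicit false
set_option maxRecDepth 100000

namespace CfsgLib.OrderType.G21

def chunk0 : List ℕ := [3986500661908860327174208, 2758393742122624562233606, 3363220992845124356800582, 3976761917079464625332416, 3679471882354636419260482, 3976761917079331413975298, 2475199289953012630683970, 2168170512338328274886914, 3674606608184952727822402, 2173035912578426516799682, 2782219999086665982550342, 3367577828631136825254214, 3981627317319428516094208, 2451881471372365390946560, 2475199289953011574775872, 3056192213291173195817158, 2782219999087077243494464, 3367577828631551256305920, 3981627317319014085042502, 3363220992845122225856704, 3061065557880743469015232, 3674606608185090166751302, 3056192213291587643646016, 2173035912578425377005824, 2754036780266329696379206, 2480064566062233727279360, 2461103709337742956830784, 3075161140435409938948294, 3061065557880740215021888, 2154074929783657543786816, 2768132486951743255216390, 3670249646329205454012610]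
def chunk1 : List ℕ := [3981627317319429655888066, 2480064566061823607726146, 3688694120320421973721282, 2154074929783519048917058, 2754036780266471446806598, 3382181849569617274208518, 3962666334524660682875200, 3372443104740500778516550, 3056192213291314862358790, 3670249646328933763014976, 3363220992845126453428486, 3061065557880744526479430, 3674606608185089109287104, 3976761917079742690099522, 2754036780266742013231426, 3367577828631138939461890, 3670249646328934803702022, 3981627317319155835469894, 2480064566061959989190848, 2173035912578152696381510, 3688694120320151323410694, 2754036780266745267224770, 3382181849569887924519106, 3962666334524522188005442, 2168170512338327234158918, 3674606608184948416323910, 2768132486951604775559494, 3382181849569892152123648, 2480064566061821410435330, 2461103709337330639986754, 3075161140435822255800514, 3976761917079468852904198]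
def chunk2 : List ℕ := [3367577828631277518217408, 2154074929783658584473862, 2768132486951742214529344, 3674606608185363987169474, 3962666334524932373872834, 3367577828631278575681606, 3075161140435551605489926, 3688694120320150282723648, 3084383378400929171374150, 3665376301739504182780096, 3962666334524935560757570, 2777354598847388146729282, 3358355592605299935305986, 3981627317319017339035846, 2768132486951601588674758, 3382181849569890055495744, 2163813674612636684394694, 2777354598847392458219584, 3688694120320011787853890, 3972405079353638683697410, 2470325945363579796455746, 2475199289952737752801600, 2480064566061956735197504, 3061065557880742329188614, 2754036780266467135349056, 3382181849569616233521472, 3962666334524661723562246, 3075161140435824386777152, 3688694120320009656869062, 2461103709337469134856512, 2470325945363304918573376, 3084383378400926974083334]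
def chunk3 : List ℕ := [3075161140435826483405056, 2163813674613050058743872, 2777354598846979083870406, 3674606608184950530531586, 2461103709337740825854146, 3665376301739365604024578, 2163813674613045747253570, 3358355592605301075091654, 3972405079354053197832256, 2177909257167442673950978, 3670249646328795268145218, 2168170512338736364126402, 3976761917079329317347394, 2754036780266331810586882, 3367577828631549142106434, 2475199289952597126947014, 2480064566061822550220998, 3061065557881019404394560, 2168170512338326178259010, 2173035912578423262806338, 3981627317319016199250178, 2768132486951603719659586, 2480064566061819296227654, 2461103709337331695886662, 2782219999086800234635456, 3962666334524657495990464, 2461103709337468078915654, 2173035912578427574296640, 3688694120320426201325824, 2154074929783520104816966, 2475199289952599257931842, 3061065557881015092904258]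
def chunk4 : List ℕ := [3382181849569477738651714, 3075161140435413125833030, 3061065557880604890259714, 2768132486952013905526978, 2470325945363169593811202, 3084383378401199737798978, 3674606608185085855293760, 2461103709337470175543558, 3665376301739500928786752, 2163813674612772983537926, 2768132486952018133131520, 3358355592605714449440832, 3972405079353639823483078, 3056192213291585512669378, 2754036780266334007877698, 2480064566062234867073218, 3075161140435412069933122, 3972405079354052140335298, 2470325945363171791102018, 2154074929783656487845958, 3665376301739503042953478, 2163813674612770869371200, 3367577828631553453596736, 3688694120320012843753798, 3084383378401204049289280, 3665376301739366743810246, 2777354598847113268846912, 3358355592605437374234886, 2782219999086664926650434, 3981627317319426401894722, 2173035912578010945954118, 2154074929783933462388992]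
def chunk5 : List ℕ := [2163813674612635544609026, 2470325945363584107946048, 3358355592605435260068160, 3972405079353776122626310, 2173035912578013060161794, 2154074929783929234784450, 2777354598846977944084738, 3358355592605710137950530, 2461103709337328509001926, 2470325945363170733596870, 2772997763060825922494530, 3386538811426043237236930, 2470325945363167479603526, 2465968983507015387324742, 3079510033811774385168640, 2768132486951739027644608, 3358355592605438514061504, 3972405079353778319917126, 3967539679114087109779648, 2465968983507151770353734, 3660511025630557864993024, 2158948274372949718606150, 3382181849569891111403842, 3962666334524524284633346, 3688694120320425160606018, 3972405079354048886341954, 3665376301739505240244294, 2163813674612774123364544, 2158948274373362035458370, 2772997763060828019122434, 3967539679114089240723526, 2465968983507149639409856]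
def chunk6 : List ℕ := [2461103709337745053458688, 3084383378400790674940102, 3386538811426047464841472, 3967539679113952857694534, 3079510033811495279681728, 3660511025630280890449990, 3363220992844984786886854, 3061065557880606030045382, 3674606608185365044666432, 3367577828631140079247558, 3688694120320424104697920, 3981627317319018396540994, 2768132486951605816287490, 3674606608184951670317254, 3962666334524520057020614, 2154074929783516917932230, 2777354598847117580304454, 2461103709337744012738882, 3084383378400789535154434, 3382181849569475607666886, 3665376301739780118159424, 3079510033811357840711878, 3660511025630555768365120, 3972405079353640880988226, 3386538811426046424121666, 3962666334524659626934342, 2777354598847115383013638, 2158948274373086101635142, 2772997763060961230479552, 3665376301739775806669122, 3967539679114365174546754, 2465968983507016428052738]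
def chunk7 : List ℕ := [2480064566062235924570176, 3084383378400924859916608, 2465968983507428744896768, 3079510033811361027596614, 3084383378400928113909952, 2158948274373083970691264, 2772997763060963361423430, 3660511025630556824273218, 2158948274372950759334146, 3386538811425770490298438, 3065414451256967306158144, 2168170512338740591730944, 2475199289953013671403776, 3056192213291313821671744, 2173035912578148384923968, 2754036780266469249515782, 2782219999087079340122368, 3962666334524936601477376, 2173035912578151638917312, 3688694120320147095838912, 3363220992845400290623810, 3075161140435825442685250, 3688694120320013884481794, 3981627317319153638179078, 2768132486951741158588486, 3382181849569613046636736, 3056192213291589740273920, 2754036780266332950372550, 2154074929783654356902080, 2754036780266746324721728, 3962666334524523243905350, 3367577828631552396099778]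
def chunk8 : List ℕ := [3084383378401202991792322, 3665376301739367801315394, 3670249646328796324045126, 3358355592605297821098310, 3972405079354051000541440, 3382181849569479835279618, 3084383378400791732445250, 3665376301739779060662466, 2470325945363307032740102, 2163813674613049001246914, 2777354598846980141375554, 3363220992845401331343616, 3981627317319154778005696, 3382181849569615177580614, 2777354598847391400722626, 3358355592605302132596802, 3981627317319430713385024, 3382181849569478794551622, 3972405079353774008459584, 3660511025630144507420998, 3972405079353777262452928, 2465968983507012200440006, 3079510033811772288540736, 2772997763061239295246658, 3688694120320149226782790, 3967539679113953898422530, 3976761917079467812217152, 3367577828631276378390790, 3674606608185362847375616, 3962666334524934504849472, 3367577828631274264224064, 3075161140435550564802880]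
def chunk9 : List ℕ := [3386538811425771546239296, 3967539679114091337351430, 3358355592605712252150016, 3660511025630141320536262, 3075161140435414166561026, 2163813674612637741899842, 3079510033811773344448834, 2158948274372946531721414, 2772997763061238239338560, 2173035912578150499090694, 2470325945363583050449090, 3386538811425768359354560, 2465968983507427704176962, 3079510033811362068324610, 3967539679113949670809798, 2465968983507426648268864, 3660511025630145548148994, 3670249646329209681617152, 2754036780266470389342400, 3061065557881018346897602, 3075161140435549508862022, 2158948274373363076178176, 2772997763060826978394438, 3079510033811497410625606, 3660511025630278759506112, 2158948274373360979550272, 3386538811425635147997442, 3967539679114366215266560, 2451881471371954213888198, 2158948274373087157576000, 3679471882354769546731840, 2177909257167580112879878]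
def chunk10 : List ℕ := [3358355592605713391943874, 3079510033811770157564098, 3660511025630143451521090, 3065414451256966248661186, 3372443104740496467059008, 3972405079353636569489734, 2470325945363581910655232, 2163813674612633430401350, 3386538811425633051369538, 3967539679114361987662018, 3372443104740359028089158, 3986500661908858129883392, 3065414451256554989314114, 3679471882355047678607554, 2451881471372090513031430, 3065414451256688116785472, 2177909257167856130588866, 2758393742122489320595522, 2163813674612775180828742, 2768132486952016036503616, 2461103709337465947971776, 2470325945363308172566720, 2777354598847116522840256, 2465968983507014331424834, 3084383378400787420946758, 2772997763061240335966464, 2177909257167581252706496, 2758393742122626759524422, 2451881471371950959894854, 3372443104740363339587650, 3986500661908859269677250, 3386538811425634107269446]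
def chunk11 : List ℕ := [3065414451256550677815622, 3679471882355046538813696, 3679471882354771660898566, 2177909257167577998713152, 2772997763061236108361922, 3372443104740774598934722, 3986500661908448010330178, 2758393742122485009097030, 3372443104740773459140864, 2451881471371955271393346, 2168170512338739551011138, 3674606608185360733176130, 2768132486952017092411714, 2480064566061958849364230, 3075161140435547377918144, 2154074929783521145544962, 2470325945363309230030918, 2754036780266744127430912, 2480064566062231613079874, 3967539679113951801794626, 2465968983507424517292226, 2154074929783932421669186, 2758393742122897325949250, 3372443104740361142296834, 2465968983507153866981638, 2451881471372092710322246, 3065414451256691370778816, 2777354598847390260928768, 3386538811426045368213568, 3679471882354772800725184, 2177909257167582310170694, 2177909257167444871241794]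
def chunk12 : List ℕ := [2758393742122900579942594, 3986500661908443698831686, 3372443104740499721052352, 3986500661908585449259078, 3065414451256965108867328, 3679471882354632107761990, 2772997763060823791509702, 3065414451256690230952198, 2177909257167440559743302, 2758393742122899440148736, 2451881471372366530740418, 2451881471372091652858048, 3065414451256692428243014, 2177909257167854990795008, 3986500661908583251968262, 2782219999086802365579334, 3056192213291312765730886, 3976761917079327186362566, 3670249646328932707074118, 3061065557880602776052038, 3084383378401201851998464, 2168170512338461486244032, 3358355592605439571525702, 3665376301739363489816902, 2163813674613047861453056, 3976761917079466756276294, 2461103709337332736614658, 3674606608185087969460486, 2772997763060964417364288, 3386538811425772586926342, 2475199289953009443799234, 3061065557880607087550530]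
def chunk13 : List ℕ := [3660511025630553637388482, 2158948274372948662706242, 3967539679114090296664384, 2154074929783931365761088, 3665376301739777920868608, 3386538811425630920384710, 2465968983507152826294592, 3079510033811499507253510, 2772997763060965458051334, 3967539679114364118638656, 2168170512338463617187910, 2777354598846975829877062, 3065414451256962994667842, 3679471882354634221969666, 3986500661908584391794880, 2782219999086662795665606, 2173035912578015257452610, 2480064566061961046655046, 2173035912578014199947462, 3679471882354635361755334, 2177909257167857188085824, 3986500661908856015683906, 3660511025630282987077894, 2451881471372363276747074, 3065414451256552792023298, 2758393742122625702060224, 2177909257167852876595522, 2758393742122487123304706, 3079510033811498466566464, 3679471882354773858189382, 3372443104740771344941378, 3986500661908445813039362]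
def chunk14 : List ℕ := [2475199289952736696860742, 3981627317319151524012352, 2758393742122622448066880, 3372443104740498581225734, 3986500661908581137801536, 3056192213291588699554114, 3670249646328797364773122, 2177909257167443813736646, 2758393742122901637439552, 2782219999087078299402562, 3660511025630281946390848, 2158948274373088198263046, 2451881471372367588237376, 3065414451256553931808966, 2782219999086803421520192, 3670249646328793137160390, 2168170512338738495103040, 2158948274373358848573634, 3679471882355048736104512, 2451881471372088398864704, 3056192213291177423429890, 3670249646329208640897346, 3986500661908446952825030, 3363220992845399234715712, 2168170512338464673128768, 2782219999086804462207238, 3976761917079741634191424, 3670249646329207584989248, 2168170512338324047274182, 3363220992845125412741440, 2782219999087075112517826, 3363220992844986917871682]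
def chunk15 : List ℕ := [2475199289952738793488646, 2475199289952601354559746, 2168170512338465713815814, 3976761917079739503214786, 3056192213291310634787008, 3367577828631141136752706, 3079510033811359971696706, 3372443104740775656431680, 3679471882355044424614210, 3056192213291175326801986, 2475199289952600313831750, 3363220992845397103739074, 2451881471371953074102530, 2782219999086667023278338, 3056192213291176382701894, 3363220992844989014499586, 2758393742122488263090374, 3372443104740362282082502, 3363220992844987973771590, 3976761917079743730819328, 3061065557881017207103744, 3976761917079330373247302, 3670249646328930576130240, 2475199289952734565916864]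
def ords0 : List OrdCert := [(1, [true], []),
  (42, [false, true, false, true, false, true], [(21, [true, false, true, false, true]), (14, [false, true, true, true]), (6, [false, true, true])]),
  (6, [false, true, true], [(3, [true, true]), (2, [false, true])]),
  (12, [false, false, true, true], [(6, [false, true, true]), (4, [false, false, true])]),
  (21, [true, false, true, false, true], [(7, [true, true, true]), (3, [true, true])]),
  (6, [false, true, true], [(3, [true, true]), (2, [false, true])]),
  (12, [false, false, true, true], [(6, [false, true, true]), (4, [false, false, true])]),
  (6, [false, true, true], [(3, [true, true]), (2, [false, true])]),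
  (3, [true, true], [(1, [true])]),
  (6, [false, true, true], [(3, [true, true]), (2, [false, true])]),
  (12, [false, false, true, true], [(6, [false, true, true]), (4, [false, false, true])]),
  (6, [false, true, true], [(3, [true, true]), (2, [false, true])]),
  (6, [false, true, true], [(3, [true, true]), (2, [false, true])]),
  (14, [false, true, true, true], [(7, [true, true, true]), (2, [false, true])]),
  (6, [false, true, true], [(3, [true, true]), (2, [false, true])]),
  (12, [false, false, true, true], [(6, [false, true, true]), (4, [false, false, true])]),
  (6, [false, true, true], [(3, [true, true]), (2, [false, true])]),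
  (6, [false, true, true], [(3, [true, true]), (2, [false, true])]),
  (6, [false, true, true], [(3, [true, true]), (2, [false, true])]),
  (12, [false, false, true, true], [(6, [false, true, true]), (4, [false, false, true])]),
  (6, [false, true, true], [(3, [true, true]), (2, [false, true])]),
  (3, [true, true], [(1, [true])]),
  (6, [false, true, true], [(3, [true, true]), (2, [false, true])]),
  (6, [false, true, true], [(3, [true, true]), (2, [false, true])]),
  (6, [false, true, true], [(3, [true, true]), (2, [false, true])]),
  (6, [false, true, true], [(3, [true, true]), (2, [false, true])]),
  (2, [false, true], [(1, [true])]),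
  (4, [false, false, true], [(2, [false, true])]),
  (6, [false, true, true], [(3, [true, true]), (2, [false, true])]),
  (4, [false, false, true], [(2, [false, true])]),
  (6, [false, true, true], [(3, [true, true]), (2, [false, true])]),
  (12, [false, false, true, true], [(6, [false, true, true]), (4, [false, false, true])])]
def ords1 : List OrdCert := [(6, [false, true, true], [(3, [true, true]), (2, [false, true])]),
  (3, [true, true], [(1, [true])]),
  (4, [false, false, true], [(2, [false, true])]),
  (6, [false, true, true], [(3, [true, true]), (2, [false, true])]),
  (3, [true, true], [(1, [true])]),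
  (6, [false, true, true], [(3, [true, true]), (2, [false, true])]),
  (4, [false, false, true], [(2, [false, true])]),
  (21, [true, false, true, false, true], [(7, [true, true, true]), (3, [true, true])]),
  (6, [false, true, true], [(3, [true, true]), (2, [false, true])]),
  (12, [false, false, true, true], [(6, [false, true, true]), (4, [false, false, true])]),
  (6, [false, true, true], [(3, [true, true]), (2, [false, true])]),
  (3, [true, true], [(1, [true])]),
  (6, [false, true, true], [(3, [true, true]), (2, [false, true])]),
  (12, [false, false, true, true], [(6, [false, true, true]), (4, [false, false, true])]),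
  (6, [false, true, true], [(3, [true, true]), (2, [false, true])]),
  (6, [false, true, true], [(3, [true, true]), (2, [false, true])]),
  (6, [false, true, true], [(3, [true, true]), (2, [false, true])]),
  (3, [true, true], [(1, [true])]),
  (6, [false, true, true], [(3, [true, true]), (2, [false, true])]),
  (3, [true, true], [(1, [true])]),
  (6, [false, true, true], [(3, [true, true]), (2, [false, true])]),
  (6, [false, true, true], [(3, [true, true]), (2, [false, true])]),
  (4, [false, false, true], [(2, [false, true])]),
  (6, [false, true, true], [(3, [true, true]), (2, [false, true])]),
  (12, [false, false, true, true], [(6, [false, true, true]), (4, [false, false, true])]),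
  (6, [false, true, true], [(3, [true, true]), (2, [false, true])]),
  (4, [false, false, true], [(2, [false, true])]),
  (2, [false, true], [(1, [true])]),
  (6, [false, true, true], [(3, [true, true]), (2, [false, true])]),
  (6, [false, true, true], [(3, [true, true]), (2, [false, true])]),
  (4, [false, false, true], [(2, [false, true])]),
  (6, [false, true, true], [(3, [true, true]), (2, [false, true])])]
def ords2 : List OrdCert := [(6, [false, true, true], [(3, [true, true]), (2, [false, true])]),
  (6, [false, true, true], [(3, [true, true]), (2, [false, true])]),
  (4, [false, false, true], [(2, [false, true])]),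
  (6, [false, true, true], [(3, [true, true]), (2, [false, true])]),
  (4, [false, false, true], [(2, [false, true])]),
  (3, [true, true], [(1, [true])]),
  (6, [false, true, true], [(3, [true, true]), (2, [false, true])]),
  (4, [false, false, true], [(2, [false, true])]),
  (3, [true, true], [(1, [true])]),
  (6, [false, true, true], [(3, [true, true]), (2, [false, true])]),
  (4, [false, false, true], [(2, [false, true])]),
  (6, [false, true, true], [(3, [true, true]), (2, [false, true])]),
  (6, [false, true, true], [(3, [true, true]), (2, [false, true])]),
  (6, [false, true, true], [(3, [true, true]), (2, [false, true])]),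
  (4, [false, false, true], [(2, [false, true])]),
  (2, [false, true], [(1, [true])]),
  (6, [false, true, true], [(3, [true, true]), (2, [false, true])]),
  (3, [true, true], [(1, [true])]),
  (6, [false, true, true], [(3, [true, true]), (2, [false, true])]),
  (6, [false, true, true], [(3, [true, true]), (2, [false, true])]),
  (6, [false, true, true], [(3, [true, true]), (2, [false, true])]),
  (12, [false, false, true, true], [(6, [false, true, true]), (4, [false, false, true])]),
  (6, [false, true, true], [(3, [true, true]), (2, [false, true])]),
  (6, [false, true, true], [(3, [true, true]), (2, [false, true])]),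
  (6, [false, true, true], [(3, [true, true]), (2, [false, true])]),
  (4, [false, false, true], [(2, [false, true])]),
  (6, [false, true, true], [(3, [true, true]), (2, [false, true])]),
  (2, [false, true], [(1, [true])]),
  (4, [false, false, true], [(2, [false, true])]),
  (4, [false, false, true], [(2, [false, true])]),
  (6, [false, true, true], [(3, [true, true]), (2, [false, true])]),
  (6, [false, true, true], [(3, [true, true]), (2, [false, true])])]
def ords3 : List OrdCert := [(2, [false, true], [(1, [true])]),
  (3, [true, true], [(1, [true])]),
  (6, [false, true, true], [(3, [true, true]), (2, [false, true])]),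
  (6, [false, true, true], [(3, [true, true]), (2, [false, true])]),
  (4, [false, false, true], [(2, [false, true])]),
  (6, [false, true, true], [(3, [true, true]), (2, [false, true])]),
  (6, [false, true, true], [(3, [true, true]), (2, [false, true])]),
  (6, [false, true, true], [(3, [true, true]), (2, [false, true])]),
  (3, [true, true], [(1, [true])]),
  (42, [false, true, false, true, false, true], [(21, [true, false, true, false, true]), (14, [false, true, true, true]), (6, [false, true, true])]),
  (6, [false, true, true], [(3, [true, true]), (2, [false, true])]),
  (12, [false, false, true, true], [(6, [false, true, true]), (4, [false, false, true])]),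
  (6, [false, true, true], [(3, [true, true]), (2, [false, true])]),
  (6, [false, true, true], [(3, [true, true]), (2, [false, true])]),
  (6, [false, true, true], [(3, [true, true]), (2, [false, true])]),
  (12, [false, false, true, true], [(6, [false, true, true]), (4, [false, false, true])]),
  (6, [false, true, true], [(3, [true, true]), (2, [false, true])]),
  (3, [true, true], [(1, [true])]),
  (6, [false, true, true], [(3, [true, true]), (2, [false, true])]),
  (6, [false, true, true], [(3, [true, true]), (2, [false, true])]),
  (6, [false, true, true], [(3, [true, true]), (2, [false, true])]),
  (6, [false, true, true], [(3, [true, true]), (2, [false, true])]),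
  (6, [false, true, true], [(3, [true, true]), (2, [false, true])]),
  (4, [false, false, true], [(2, [false, true])]),
  (12, [false, false, true, true], [(6, [false, true, true]), (4, [false, false, true])]),
  (4, [false, false, true], [(2, [false, true])]),
  (6, [false, true, true], [(3, [true, true]), (2, [false, true])]),
  (3, [true, true], [(1, [true])]),
  (2, [false, true], [(1, [true])]),
  (4, [false, false, true], [(2, [false, true])]),
  (6, [false, true, true], [(3, [true, true]), (2, [false, true])]),
  (6, [false, true, true], [(3, [true, true]), (2, [false, true])])]
def ords4 : List OrdCert := [(6, [false, true, true], [(3, [true, true]), (2, [false, true])]),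
  (4, [false, false, true], [(2, [false, true])]),
  (6, [false, true, true], [(3, [true, true]), (2, [false, true])]),
  (4, [false, false, true], [(2, [false, true])]),
  (6, [false, true, true], [(3, [true, true]), (2, [false, true])]),
  (6, [false, true, true], [(3, [true, true]), (2, [false, true])]),
  (6, [false, true, true], [(3, [true, true]), (2, [false, true])]),
  (6, [false, true, true], [(3, [true, true]), (2, [false, true])]),
  (6, [false, true, true], [(3, [true, true]), (2, [false, true])]),
  (6, [false, true, true], [(3, [true, true]), (2, [false, true])]),
  (2, [false, true], [(1, [true])]),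
  (3, [true, true], [(1, [true])]),
  (6, [false, true, true], [(3, [true, true]), (2, [false, true])]),
  (12, [false, false, true, true], [(6, [false, true, true]), (4, [false, false, true])]),
  (3, [true, true], [(1, [true])]),
  (6, [false, true, true], [(3, [true, true]), (2, [false, true])]),
  (6, [false, true, true], [(3, [true, true]), (2, [false, true])]),
  (6, [false, true, true], [(3, [true, true]), (2, [false, true])]),
  (3, [true, true], [(1, [true])]),
  (6, [false, true, true], [(3, [true, true]), (2, [false, true])]),
  (6, [false, true, true], [(3, [true, true]), (2, [false, true])]),
  (6, [false, true, true], [(3, [true, true]), (2, [false, true])]),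
  (3, [true, true], [(1, [true])]),
  (4, [false, false, true], [(2, [false, true])]),
  (3, [true, true], [(1, [true])]),
  (6, [false, true, true], [(3, [true, true]), (2, [false, true])]),
  (6, [false, true, true], [(3, [true, true]), (2, [false, true])]),
  (6, [false, true, true], [(3, [true, true]), (2, [false, true])]),
  (6, [false, true, true], [(3, [true, true]), (2, [false, true])]),
  (6, [false, true, true], [(3, [true, true]), (2, [false, true])]),
  (6, [false, true, true], [(3, [true, true]), (2, [false, true])]),
  (2, [false, true], [(1, [true])])]
def ords5 : List OrdCert := [(6, [false, true, true], [(3, [true, true]), (2, [false, true])]),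
  (3, [true, true], [(1, [true])]),
  (6, [false, true, true], [(3, [true, true]), (2, [false, true])]),
  (6, [false, true, true], [(3, [true, true]), (2, [false, true])]),
  (6, [false, true, true], [(3, [true, true]), (2, [false, true])]),
  (4, [false, false, true], [(2, [false, true])]),
  (6, [false, true, true], [(3, [true, true]), (2, [false, true])]),
  (6, [false, true, true], [(3, [true, true]), (2, [false, true])]),
  (4, [false, false, true], [(2, [false, true])]),
  (6, [false, true, true], [(3, [true, true]), (2, [false, true])]),
  (6, [false, true, true], [(3, [true, true]), (2, [false, true])]),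
  (12, [false, false, true, true], [(6, [false, true, true]), (4, [false, false, true])]),
  (6, [false, true, true], [(3, [true, true]), (2, [false, true])]),
  (12, [false, false, true, true], [(6, [false, true, true]), (4, [false, false, true])]),
  (6, [false, true, true], [(3, [true, true]), (2, [false, true])]),
  (4, [false, false, true], [(2, [false, true])]),
  (6, [false, true, true], [(3, [true, true]), (2, [false, true])]),
  (3, [true, true], [(1, [true])]),
  (12, [false, false, true, true], [(6, [false, true, true]), (4, [false, false, true])]),
  (6, [false, true, true], [(3, [true, true]), (2, [false, true])]),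
  (6, [false, true, true], [(3, [true, true]), (2, [false, true])]),
  (12, [false, false, true, true], [(6, [false, true, true]), (4, [false, false, true])]),
  (4, [false, false, true], [(2, [false, true])]),
  (6, [false, true, true], [(3, [true, true]), (2, [false, true])]),
  (4, [false, false, true], [(2, [false, true])]),
  (6, [false, true, true], [(3, [true, true]), (2, [false, true])]),
  (3, [true, true], [(1, [true])]),
  (6, [false, true, true], [(3, [true, true]), (2, [false, true])]),
  (12, [false, false, true, true], [(6, [false, true, true]), (4, [false, false, true])]),
  (6, [false, true, true], [(3, [true, true]), (2, [false, true])]),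
  (6, [false, true, true], [(3, [true, true]), (2, [false, true])]),
  (12, [false, false, true, true], [(6, [false, true, true]), (4, [false, false, true])])]
def ords6 : List OrdCert := [(2, [false, true], [(1, [true])]),
  (6, [false, true, true], [(3, [true, true]), (2, [false, true])]),
  (6, [false, true, true], [(3, [true, true]), (2, [false, true])]),
  (12, [false, false, true, true], [(6, [false, true, true]), (4, [false, false, true])]),
  (12, [false, false, true, true], [(6, [false, true, true]), (4, [false, false, true])]),
  (6, [false, true, true], [(3, [true, true]), (2, [false, true])]),
  (12, [false, false, true, true], [(6, [false, true, true]), (4, [false, false, true])]),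
  (6, [false, true, true], [(3, [true, true]), (2, [false, true])]),
  (3, [true, true], [(1, [true])]),
  (6, [false, true, true], [(3, [true, true]), (2, [false, true])]),
  (2, [false, true], [(1, [true])]),
  (3, [true, true], [(1, [true])]),
  (6, [false, true, true], [(3, [true, true]), (2, [false, true])]),
  (6, [false, true, true], [(3, [true, true]), (2, [false, true])]),
  (4, [false, false, true], [(2, [false, true])]),
  (4, [false, false, true], [(2, [false, true])]),
  (3, [true, true], [(1, [true])]),
  (4, [false, false, true], [(2, [false, true])]),
  (6, [false, true, true], [(3, [true, true]), (2, [false, true])]),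
  (4, [false, false, true], [(2, [false, true])]),
  (3, [true, true], [(1, [true])]),
  (12, [false, false, true, true], [(6, [false, true, true]), (4, [false, false, true])]),
  (6, [false, true, true], [(3, [true, true]), (2, [false, true])]),
  (3, [true, true], [(1, [true])]),
  (12, [false, false, true, true], [(6, [false, true, true]), (4, [false, false, true])]),
  (6, [false, true, true], [(3, [true, true]), (2, [false, true])]),
  (6, [false, true, true], [(3, [true, true]), (2, [false, true])]),
  (6, [false, true, true], [(3, [true, true]), (2, [false, true])]),
  (12, [false, false, true, true], [(6, [false, true, true]), (4, [false, false, true])]),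
  (6, [false, true, true], [(3, [true, true]), (2, [false, true])]),
  (12, [false, false, true, true], [(6, [false, true, true]), (4, [false, false, true])]),
  (6, [false, true, true], [(3, [true, true]), (2, [false, true])])]
def ords7 : List OrdCert := [(3, [true, true], [(1, [true])]),
  (6, [false, true, true], [(3, [true, true]), (2, [false, true])]),
  (6, [false, true, true], [(3, [true, true]), (2, [false, true])]),
  (12, [false, false, true, true], [(6, [false, true, true]), (4, [false, false, true])]),
  (6, [false, true, true], [(3, [true, true]), (2, [false, true])]),
  (12, [false, false, true, true], [(6, [false, true, true]), (4, [false, false, true])]),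
  (6, [false, true, true], [(3, [true, true]), (2, [false, true])]),
  (12, [false, false, true, true], [(6, [false, true, true]), (4, [false, false, true])]),
  (6, [false, true, true], [(3, [true, true]), (2, [false, true])]),
  (6, [false, true, true], [(3, [true, true]), (2, [false, true])]),
  (7, [true, true, true], [(1, [true])]),
  (6, [false, true, true], [(3, [true, true]), (2, [false, true])]),
  (6, [false, true, true], [(3, [true, true]), (2, [false, true])]),
  (12, [false, false, true, true], [(6, [false, true, true]), (4, [false, false, true])]),
  (6, [false, true, true], [(3, [true, true]), (2, [false, true])]),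
  (6, [false, true, true], [(3, [true, true]), (2, [false, true])]),
  (6, [false, true, true], [(3, [true, true]), (2, [false, true])]),
  (2, [false, true], [(1, [true])]),
  (6, [false, true, true], [(3, [true, true]), (2, [false, true])]),
  (4, [false, false, true], [(2, [false, true])]),
  (12, [false, false, true, true], [(6, [false, true, true]), (4, [false, false, true])]),
  (4, [false, false, true], [(2, [false, true])]),
  (6, [false, true, true], [(3, [true, true]), (2, [false, true])]),
  (6, [false, true, true], [(3, [true, true]), (2, [false, true])]),
  (6, [false, true, true], [(3, [true, true]), (2, [false, true])]),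
  (4, [false, false, true], [(2, [false, true])]),
  (6, [false, true, true], [(3, [true, true]), (2, [false, true])]),
  (6, [false, true, true], [(3, [true, true]), (2, [false, true])]),
  (4, [false, false, true], [(2, [false, true])]),
  (3, [true, true], [(1, [true])]),
  (4, [false, false, true], [(2, [false, true])]),
  (6, [false, true, true], [(3, [true, true]), (2, [false, true])])]
def ords8 : List OrdCert := [(6, [false, true, true], [(3, [true, true]), (2, [false, true])]),
  (3, [true, true], [(1, [true])]),
  (12, [false, false, true, true], [(6, [false, true, true]), (4, [false, false, true])]),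
  (6, [false, true, true], [(3, [true, true]), (2, [false, true])]),
  (6, [false, true, true], [(3, [true, true]), (2, [false, true])]),
  (6, [false, true, true], [(3, [true, true]), (2, [false, true])]),
  (3, [true, true], [(1, [true])]),
  (6, [false, true, true], [(3, [true, true]), (2, [false, true])]),
  (6, [false, true, true], [(3, [true, true]), (2, [false, true])]),
  (6, [false, true, true], [(3, [true, true]), (2, [false, true])]),
  (3, [true, true], [(1, [true])]),
  (6, [false, true, true], [(3, [true, true]), (2, [false, true])]),
  (6, [false, true, true], [(3, [true, true]), (2, [false, true])]),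
  (6, [false, true, true], [(3, [true, true]), (2, [false, true])]),
  (6, [false, true, true], [(3, [true, true]), (2, [false, true])]),
  (3, [true, true], [(1, [true])]),
  (3, [true, true], [(1, [true])]),
  (4, [false, false, true], [(2, [false, true])]),
  (6, [false, true, true], [(3, [true, true]), (2, [false, true])]),
  (12, [false, false, true, true], [(6, [false, true, true]), (4, [false, false, true])]),
  (6, [false, true, true], [(3, [true, true]), (2, [false, true])]),
  (12, [false, false, true, true], [(6, [false, true, true]), (4, [false, false, true])]),
  (6, [false, true, true], [(3, [true, true]), (2, [false, true])]),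
  (12, [false, false, true, true], [(6, [false, true, true]), (4, [false, false, true])]),
  (6, [false, true, true], [(3, [true, true]), (2, [false, true])]),
  (6, [false, true, true], [(3, [true, true]), (2, [false, true])]),
  (12, [false, false, true, true], [(6, [false, true, true]), (4, [false, false, true])]),
  (6, [false, true, true], [(3, [true, true]), (2, [false, true])]),
  (6, [false, true, true], [(3, [true, true]), (2, [false, true])]),
  (2, [false, true], [(1, [true])]),
  (6, [false, true, true], [(3, [true, true]), (2, [false, true])]),
  (4, [false, false, true], [(2, [false, true])])]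
def ords9 : List OrdCert := [(12, [false, false, true, true], [(6, [false, true, true]), (4, [false, false, true])]),
  (6, [false, true, true], [(3, [true, true]), (2, [false, true])]),
  (6, [false, true, true], [(3, [true, true]), (2, [false, true])]),
  (12, [false, false, true, true], [(6, [false, true, true]), (4, [false, false, true])]),
  (6, [false, true, true], [(3, [true, true]), (2, [false, true])]),
  (3, [true, true], [(1, [true])]),
  (12, [false, false, true, true], [(6, [false, true, true]), (4, [false, false, true])]),
  (12, [false, false, true, true], [(6, [false, true, true]), (4, [false, false, true])]),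
  (6, [false, true, true], [(3, [true, true]), (2, [false, true])]),
  (6, [false, true, true], [(3, [true, true]), (2, [false, true])]),
  (6, [false, true, true], [(3, [true, true]), (2, [false, true])]),
  (12, [false, false, true, true], [(6, [false, true, true]), (4, [false, false, true])]),
  (12, [false, false, true, true], [(6, [false, true, true]), (4, [false, false, true])]),
  (6, [false, true, true], [(3, [true, true]), (2, [false, true])]),
  (12, [false, false, true, true], [(6, [false, true, true]), (4, [false, false, true])]),
  (6, [false, true, true], [(3, [true, true]), (2, [false, true])]),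
  (6, [false, true, true], [(3, [true, true]), (2, [false, true])]),
  (6, [false, true, true], [(3, [true, true]), (2, [false, true])]),
  (6, [false, true, true], [(3, [true, true]), (2, [false, true])]),
  (6, [false, true, true], [(3, [true, true]), (2, [false, true])]),
  (6, [false, true, true], [(3, [true, true]), (2, [false, true])]),
  (6, [false, true, true], [(3, [true, true]), (2, [false, true])]),
  (12, [false, false, true, true], [(6, [false, true, true]), (4, [false, false, true])]),
  (6, [false, true, true], [(3, [true, true]), (2, [false, true])]),
  (12, [false, false, true, true], [(6, [false, true, true]), (4, [false, false, true])]),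
  (6, [false, true, true], [(3, [true, true]), (2, [false, true])]),
  (6, [false, true, true], [(3, [true, true]), (2, [false, true])]),
  (6, [false, true, true], [(3, [true, true]), (2, [false, true])]),
  (14, [false, true, true, true], [(7, [true, true, true]), (2, [false, true])]),
  (12, [false, false, true, true], [(6, [false, true, true]), (4, [false, false, true])]),
  (14, [false, true, true, true], [(7, [true, true, true]), (2, [false, true])]),
  (42, [false, true, false, true, false, true], [(21, [true, false, true, false, true]), (14, [false, true, true, true]), (6, [false, true, true])])]
def ords10 : List OrdCert := [(6, [false, true, true], [(3, [true, true]), (2, [false, true])]),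
  (12, [false, false, true, true], [(6, [false, true, true]), (4, [false, false, true])]),
  (6, [false, true, true], [(3, [true, true]), (2, [false, true])]),
  (14, [false, true, true, true], [(7, [true, true, true]), (2, [false, true])]),
  (14, [false, true, true, true], [(7, [true, true, true]), (2, [false, true])]),
  (6, [false, true, true], [(3, [true, true]), (2, [false, true])]),
  (6, [false, true, true], [(3, [true, true]), (2, [false, true])]),
  (6, [false, true, true], [(3, [true, true]), (2, [false, true])]),
  (6, [false, true, true], [(3, [true, true]), (2, [false, true])]),
  (12, [false, false, true, true], [(6, [false, true, true]), (4, [false, false, true])]),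
  (14, [false, true, true, true], [(7, [true, true, true]), (2, [false, true])]),
  (2, [false, true], [(1, [true])]),
  (21, [true, false, true, false, true], [(7, [true, true, true]), (3, [true, true])]),
  (14, [false, true, true, true], [(7, [true, true, true]), (2, [false, true])]),
  (42, [false, true, false, true, false, true], [(21, [true, false, true, false, true]), (14, [false, true, true, true]), (6, [false, true, true])]),
  (14, [false, true, true, true], [(7, [true, true, true]), (2, [false, true])]),
  (14, [false, true, true, true], [(7, [true, true, true]), (2, [false, true])]),
  (21, [true, false, true, false, true], [(7, [true, true, true]), (3, [true, true])]),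
  (3, [true, true], [(1, [true])]),
  (2, [false, true], [(1, [true])]),
  (4, [false, false, true], [(2, [false, true])]),
  (6, [false, true, true], [(3, [true, true]), (2, [false, true])]),
  (6, [false, true, true], [(3, [true, true]), (2, [false, true])]),
  (6, [false, true, true], [(3, [true, true]), (2, [false, true])]),
  (6, [false, true, true], [(3, [true, true]), (2, [false, true])]),
  (6, [false, true, true], [(3, [true, true]), (2, [false, true])]),
  (14, [false, true, true, true], [(7, [true, true, true]), (2, [false, true])]),
  (21, [true, false, true, false, true], [(7, [true, true, true]), (3, [true, true])]),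
  (14, [false, true, true, true], [(7, [true, true, true]), (2, [false, true])]),
  (21, [true, false, true, false, true], [(7, [true, true, true]), (3, [true, true])]),
  (2, [false, true], [(1, [true])]),
  (12, [false, false, true, true], [(6, [false, true, true]), (4, [false, false, true])])]
def ords11 : List OrdCert := [(14, [false, true, true, true], [(7, [true, true, true]), (2, [false, true])]),
  (14, [false, true, true, true], [(7, [true, true, true]), (2, [false, true])]),
  (42, [false, true, false, true, false, true], [(21, [true, false, true, false, true]), (14, [false, true, true, true]), (6, [false, true, true])]),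
  (14, [false, true, true, true], [(7, [true, true, true]), (2, [false, true])]),
  (12, [false, false, true, true], [(6, [false, true, true]), (4, [false, false, true])]),
  (14, [false, true, true, true], [(7, [true, true, true]), (2, [false, true])]),
  (3, [true, true], [(1, [true])]),
  (14, [false, true, true, true], [(7, [true, true, true]), (2, [false, true])]),
  (14, [false, true, true, true], [(7, [true, true, true]), (2, [false, true])]),
  (21, [true, false, true, false, true], [(7, [true, true, true]), (3, [true, true])]),
  (12, [false, false, true, true], [(6, [false, true, true]), (4, [false, false, true])]),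
  (6, [false, true, true], [(3, [true, true]), (2, [false, true])]),
  (4, [false, false, true], [(2, [false, true])]),
  (6, [false, true, true], [(3, [true, true]), (2, [false, true])]),
  (4, [false, false, true], [(2, [false, true])]),
  (6, [false, true, true], [(3, [true, true]), (2, [false, true])]),
  (3, [true, true], [(1, [true])]),
  (6, [false, true, true], [(3, [true, true]), (2, [false, true])]),
  (6, [false, true, true], [(3, [true, true]), (2, [false, true])]),
  (6, [false, true, true], [(3, [true, true]), (2, [false, true])]),
  (12, [false, false, true, true], [(6, [false, true, true]), (4, [false, false, true])]),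
  (4, [false, false, true], [(2, [false, true])]),
  (14, [false, true, true, true], [(7, [true, true, true]), (2, [false, true])]),
  (42, [false, true, false, true, false, true], [(21, [true, false, true, false, true]), (14, [false, true, true, true]), (6, [false, true, true])]),
  (6, [false, true, true], [(3, [true, true]), (2, [false, true])]),
  (21, [true, false, true, false, true], [(7, [true, true, true]), (3, [true, true])]),
  (14, [false, true, true, true], [(7, [true, true, true]), (2, [false, true])]),
  (6, [false, true, true], [(3, [true, true]), (2, [false, true])]),
  (6, [false, true, true], [(3, [true, true]), (2, [false, true])]),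
  (14, [false, true, true, true], [(7, [true, true, true]), (2, [false, true])]),
  (21, [true, false, true, false, true], [(7, [true, true, true]), (3, [true, true])]),
  (21, [true, false, true, false, true], [(7, [true, true, true]), (3, [true, true])])]
def ords12 : List OrdCert := [(14, [false, true, true, true], [(7, [true, true, true]), (2, [false, true])]),
  (2, [false, true], [(1, [true])]),
  (14, [false, true, true, true], [(7, [true, true, true]), (2, [false, true])]),
  (3, [true, true], [(1, [true])]),
  (14, [false, true, true, true], [(7, [true, true, true]), (2, [false, true])]),
  (14, [false, true, true, true], [(7, [true, true, true]), (2, [false, true])]),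
  (12, [false, false, true, true], [(6, [false, true, true]), (4, [false, false, true])]),
  (42, [false, true, false, true, false, true], [(21, [true, false, true, false, true]), (14, [false, true, true, true]), (6, [false, true, true])]),
  (14, [false, true, true, true], [(7, [true, true, true]), (2, [false, true])]),
  (14, [false, true, true, true], [(7, [true, true, true]), (2, [false, true])]),
  (14, [false, true, true, true], [(7, [true, true, true]), (2, [false, true])]),
  (14, [false, true, true, true], [(7, [true, true, true]), (2, [false, true])]),
  (21, [true, false, true, false, true], [(7, [true, true, true]), (3, [true, true])]),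
  (14, [false, true, true, true], [(7, [true, true, true]), (2, [false, true])]),
  (6, [false, true, true], [(3, [true, true]), (2, [false, true])]),
  (6, [false, true, true], [(3, [true, true]), (2, [false, true])]),
  (6, [false, true, true], [(3, [true, true]), (2, [false, true])]),
  (12, [false, false, true, true], [(6, [false, true, true]), (4, [false, false, true])]),
  (6, [false, true, true], [(3, [true, true]), (2, [false, true])]),
  (6, [false, true, true], [(3, [true, true]), (2, [false, true])]),
  (6, [false, true, true], [(3, [true, true]), (2, [false, true])]),
  (12, [false, false, true, true], [(6, [false, true, true]), (4, [false, false, true])]),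
  (3, [true, true], [(1, [true])]),
  (6, [false, true, true], [(3, [true, true]), (2, [false, true])]),
  (6, [false, true, true], [(3, [true, true]), (2, [false, true])]),
  (6, [false, true, true], [(3, [true, true]), (2, [false, true])]),
  (6, [false, true, true], [(3, [true, true]), (2, [false, true])]),
  (6, [false, true, true], [(3, [true, true]), (2, [false, true])]),
  (12, [false, false, true, true], [(6, [false, true, true]), (4, [false, false, true])]),
  (6, [false, true, true], [(3, [true, true]), (2, [false, true])]),
  (12, [false, false, true, true], [(6, [false, true, true]), (4, [false, false, true])]),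
  (3, [true, true], [(1, [true])])]
def ords13 : List OrdCert := [(12, [false, false, true, true], [(6, [false, true, true]), (4, [false, false, true])]),
  (6, [false, true, true], [(3, [true, true]), (2, [false, true])]),
  (12, [false, false, true, true], [(6, [false, true, true]), (4, [false, false, true])]),
  (2, [false, true], [(1, [true])]),
  (6, [false, true, true], [(3, [true, true]), (2, [false, true])]),
  (12, [false, false, true, true], [(6, [false, true, true]), (4, [false, false, true])]),
  (12, [false, false, true, true], [(6, [false, true, true]), (4, [false, false, true])]),
  (6, [false, true, true], [(3, [true, true]), (2, [false, true])]),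
  (6, [false, true, true], [(3, [true, true]), (2, [false, true])]),
  (6, [false, true, true], [(3, [true, true]), (2, [false, true])]),
  (6, [false, true, true], [(3, [true, true]), (2, [false, true])]),
  (6, [false, true, true], [(3, [true, true]), (2, [false, true])]),
  (14, [false, true, true, true], [(7, [true, true, true]), (2, [false, true])]),
  (42, [false, true, false, true, false, true], [(21, [true, false, true, false, true]), (14, [false, true, true, true]), (6, [false, true, true])]),
  (2, [false, true], [(1, [true])]),
  (12, [false, false, true, true], [(6, [false, true, true]), (4, [false, false, true])]),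
  (3, [true, true], [(1, [true])]),
  (3, [true, true], [(1, [true])]),
  (6, [false, true, true], [(3, [true, true]), (2, [false, true])]),
  (14, [false, true, true, true], [(7, [true, true, true]), (2, [false, true])]),
  (7, [true, true, true], [(1, [true])]),
  (2, [false, true], [(1, [true])]),
  (6, [false, true, true], [(3, [true, true]), (2, [false, true])]),
  (14, [false, true, true, true], [(7, [true, true, true]), (2, [false, true])]),
  (42, [false, true, false, true, false, true], [(21, [true, false, true, false, true]), (14, [false, true, true, true]), (6, [false, true, true])]),
  (14, [false, true, true, true], [(7, [true, true, true]), (2, [false, true])]),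
  (14, [false, true, true, true], [(7, [true, true, true]), (2, [false, true])]),
  (42, [false, true, false, true, false, true], [(21, [true, false, true, false, true]), (14, [false, true, true, true]), (6, [false, true, true])]),
  (12, [false, false, true, true], [(6, [false, true, true]), (4, [false, false, true])]),
  (21, [true, false, true, false, true], [(7, [true, true, true]), (3, [true, true])]),
  (14, [false, true, true, true], [(7, [true, true, true]), (2, [false, true])]),
  (6, [false, true, true], [(3, [true, true]), (2, [false, true])])]
def ords14 : List OrdCert := [(6, [false, true, true], [(3, [true, true]), (2, [false, true])]),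
  (6, [false, true, true], [(3, [true, true]), (2, [false, true])]),
  (14, [false, true, true, true], [(7, [true, true, true]), (2, [false, true])]),
  (42, [false, true, false, true, false, true], [(21, [true, false, true, false, true]), (14, [false, true, true, true]), (6, [false, true, true])]),
  (2, [false, true], [(1, [true])]),
  (12, [false, false, true, true], [(6, [false, true, true]), (4, [false, false, true])]),
  (6, [false, true, true], [(3, [true, true]), (2, [false, true])]),
  (14, [false, true, true, true], [(7, [true, true, true]), (2, [false, true])]),
  (7, [true, true, true], [(1, [true])]),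
  (12, [false, false, true, true], [(6, [false, true, true]), (4, [false, false, true])]),
  (12, [false, false, true, true], [(6, [false, true, true]), (4, [false, false, true])]),
  (6, [false, true, true], [(3, [true, true]), (2, [false, true])]),
  (7, [true, true, true], [(1, [true])]),
  (14, [false, true, true, true], [(7, [true, true, true]), (2, [false, true])]),
  (12, [false, false, true, true], [(6, [false, true, true]), (4, [false, false, true])]),
  (12, [false, false, true, true], [(6, [false, true, true]), (4, [false, false, true])]),
  (6, [false, true, true], [(3, [true, true]), (2, [false, true])]),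
  (12, [false, false, true, true], [(6, [false, true, true]), (4, [false, false, true])]),
  (7, [true, true, true], [(1, [true])]),
  (14, [false, true, true, true], [(7, [true, true, true]), (2, [false, true])]),
  (6, [false, true, true], [(3, [true, true]), (2, [false, true])]),
  (12, [false, false, true, true], [(6, [false, true, true]), (4, [false, false, true])]),
  (2, [false, true], [(1, [true])]),
  (6, [false, true, true], [(3, [true, true]), (2, [false, true])]),
  (12, [false, false, true, true], [(6, [false, true, true]), (4, [false, false, true])]),
  (6, [false, true, true], [(3, [true, true]), (2, [false, true])]),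
  (6, [false, true, true], [(3, [true, true]), (2, [false, true])]),
  (6, [false, true, true], [(3, [true, true]), (2, [false, true])]),
  (12, [false, false, true, true], [(6, [false, true, true]), (4, [false, false, true])]),
  (12, [false, false, true, true], [(6, [false, true, true]), (4, [false, false, true])]),
  (12, [false, false, true, true], [(6, [false, true, true]), (4, [false, false, true])]),
  (6, [false, true, true], [(3, [true, true]), (2, [false, true])])]
def ords15 : List OrdCert := [(6, [false, true, true], [(3, [true, true]), (2, [false, true])]),
  (6, [false, true, true], [(3, [true, true]), (2, [false, true])]),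
  (6, [false, true, true], [(3, [true, true]), (2, [false, true])]),
  (12, [false, false, true, true], [(6, [false, true, true]), (4, [false, false, true])]),
  (12, [false, false, true, true], [(6, [false, true, true]), (4, [false, false, true])]),
  (3, [true, true], [(1, [true])]),
  (6, [false, true, true], [(3, [true, true]), (2, [false, true])]),
  (7, [true, true, true], [(1, [true])]),
  (14, [false, true, true, true], [(7, [true, true, true]), (2, [false, true])]),
  (6, [false, true, true], [(3, [true, true]), (2, [false, true])]),
  (12, [false, false, true, true], [(6, [false, true, true]), (4, [false, false, true])]),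
  (12, [false, false, true, true], [(6, [false, true, true]), (4, [false, false, true])]),
  (42, [false, true, false, true, false, true], [(21, [true, false, true, false, true]), (14, [false, true, true, true]), (6, [false, true, true])]),
  (6, [false, true, true], [(3, [true, true]), (2, [false, true])]),
  (12, [false, false, true, true], [(6, [false, true, true]), (4, [false, false, true])]),
  (6, [false, true, true], [(3, [true, true]), (2, [false, true])]),
  (14, [false, true, true, true], [(7, [true, true, true]), (2, [false, true])]),
  (14, [false, true, true, true], [(7, [true, true, true]), (2, [false, true])]),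
  (12, [false, false, true, true], [(6, [false, true, true]), (4, [false, false, true])]),
  (6, [false, true, true], [(3, [true, true]), (2, [false, true])]),
  (6, [false, true, true], [(3, [true, true]), (2, [false, true])]),
  (12, [false, false, true, true], [(6, [false, true, true]), (4, [false, false, true])]),
  (12, [false, false, true, true], [(6, [false, true, true]), (4, [false, false, true])]),
  (12, [false, false, true, true], [(6, [false, true, true]), (4, [false, false, true])])]
def close0 : List (List ℕ) := [[0, 0, 0], [0, 0, 0], [0, 0, 0], [0, 0, 0], [0, 0, 0], [0, 0, 0], [0, 0, 0], [0, 0, 0], [0, 0, 0], [0, 0, 0], [0, 1, 1], [0, 1, 1], [1, 1, 1], [1, 1, 1], [1, 1, 1], [1, 1, 1], [1, 1, 1], [1, 1, 0], [1, 1, 1], [1, 1, 0], [0, 1, 1], [1, 1, 1], [1, 1, 2], [1, 2, 2], [2, 2, 1], [2, 2, 2], [1, 2, 2], [2, 2, 2], [2, 2, 2], [0, 2, 2], [2, 2, 2], [2, 2, 2]]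
def close1 : List (List ℕ) := [[2, 2, 2], [0, 2, 2], [2, 2, 2], [3, 3, 3], [3, 1, 3], [1, 3, 3], [2, 3, 3], [3, 3, 3], [3, 3, 3], [3, 3, 3], [3, 3, 3], [3, 3, 1], [3, 3, 3], [3, 2, 1], [1, 3, 3], [3, 3, 3], [3, 1, 3], [3, 4, 2], [0, 4, 3], [4, 1, 4], [1, 4, 4], [4, 1, 4], [0, 4, 4], [4, 4, 4], [4, 0, 4], [4, 3, 4], [1, 4, 4], [4, 4, 4], [4, 3, 4], [1, 4, 4], [1, 4, 4], [4, 1, 4]]
def close2 : List (List ℕ) := [[4, 4, 4], [4, 5, 2], [2, 4, 5], [2, 2, 2], [2, 5, 5], [5, 2, 5], [1, 5, 5], [5, 5, 4], [2, 5, 5], [5, 5, 5], [5, 5, 5], [2, 5, 5], [3, 5, 5], [1, 5, 5], [5, 5, 4], [2, 5, 5], [4, 5, 5], [4, 5, 5], [6, 5, 6], [2, 6, 6], [5, 6, 6], [6, 6, 6], [6, 0, 6], [6, 6, 5], [6, 6, 0], [6, 4, 3], [3, 2, 5], [2, 6, 5], [6, 2, 6], [6, 6, 6], [3, 6, 6], [6, 5, 6]]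
def close3 : List (List ℕ) := [[6, 6, 5], [2, 6, 6], [6, 6, 6], [7, 6, 4], [2, 7, 4], [5, 7, 7], [7, 7, 7], [3, 7, 7], [6, 7, 5], [7, 7, 0], [7, 7, 6], [7, 7, 7], [7, 4, 2], [6, 7, 3], [7, 7, 4], [7, 3, 3], [3, 7, 7], [7, 7, 7], [7, 3, 7], [0, 7, 7], [7, 1, 7], [3, 3, 5], [7, 1, 2], [1, 8, 8], [8, 0, 0], [1, 8, 8], [8, 8, 8], [2, 4, 5], [3, 8, 7], [1, 8, 8], [8, 3, 6], [8, 5, 8]]
def close4 : List (List ℕ) := [[4, 6, 2], [2, 8, 8], [8, 4, 8], [2, 8, 8], [4, 5, 8], [8, 6, 7], [3, 5, 2], [4, 6, 6], [5, 8, 8], [8, 7, 8], [8, 5, 2], [4, 6, 7], [2, 6, 8], [8, 2, 8], [8, 8, 5], [8, 8, 1], [7, 2, 3], [4, 9, 9], [9, 8, 9], [9, 9, 8], [4, 6, 9], [6, 9, 9], [9, 8, 7], [3, 9, 8], [5, 7, 9], [2, 9, 9], [4, 9, 9], [9, 9, 5], [9, 8, 3], [9, 7, 6], [9, 5, 3], [9, 4, 4]]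
def close5 : List (List ℕ) := [[4, 9, 9], [4, 9, 9], [2, 9, 9], [8, 9, 6], [3, 4, 1], [8, 4, 6], [6, 9, 5], [5, 9, 6], [5, 4, 3], [5, 9, 9], [5, 0, 9], [9, 9, 9], [10, 10, 10], [5, 10, 0], [5, 0, 10], [4, 10, 10], [10, 8, 9], [5, 10, 10], [9, 10, 10], [9, 10, 10], [5, 10, 10], [10, 10, 10], [7, 2, 10], [10, 9, 10], [10, 10, 2], [10, 9, 5], [4, 10, 10], [10, 5, 10], [6, 10, 10], [6, 10, 10], [5, 10, 10], [10, 11, 11]]
def close6 : List (List ℕ) := [[8, 2, 4], [5, 8, 9], [6, 11, 11], [11, 11, 11], [6, 11, 11], [6, 11, 10], [11, 11, 5], [4, 11, 8], [11, 3, 11], [3, 5, 11], [4, 11, 7], [11, 2, 6], [6, 8, 5], [11, 6, 9], [11, 5, 2], [7, 3, 5], [3, 11, 11], [7, 7, 5], [3, 10, 10], [11, 6, 5], [8, 5, 6], [6, 11, 11], [11, 11, 11], [11, 11, 9], [7, 11, 11], [6, 8, 4], [8, 8, 9], [9, 11, 12], [8, 12, 0], [10, 5, 9], [6, 12, 12], [11, 12, 12]]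
def close7 : List (List ℕ) := [[8, 9, 7], [4, 12, 11], [7, 12, 9], [10, 12, 10], [10, 9, 6], [7, 12, 12], [9, 11, 12], [5, 12, 12], [8, 12, 11], [7, 0, 10], [12, 12, 0], [12, 9, 2], [0, 2, 4], [12, 7, 4], [6, 6, 10], [0, 5, 6], [12, 7, 2], [7, 4, 8], [12, 3, 4], [3, 5, 12], [12, 1, 1], [3, 10, 12], [0, 10, 10], [4, 8, 2], [7, 6, 9], [3, 12, 12], [12, 7, 8], [11, 2, 12], [4, 10, 11], [12, 6, 10], [4, 10, 6], [7, 2, 2]]
def close8 : List (List ℕ) := [[8, 12, 12], [10, 9, 6], [12, 4, 12], [8, 13, 13], [6, 12, 13], [13, 13, 10], [8, 9, 13], [2, 13, 13], [8, 9, 7], [7, 9, 13], [13, 13, 8], [13, 12, 7], [0, 8, 7], [11, 8, 8], [4, 13, 11], [12, 6, 9], [7, 8, 3], [5, 8, 9], [3, 13, 13], [11, 12, 10], [13, 10, 9], [6, 13, 13], [9, 10, 12], [9, 13, 11], [12, 4, 8], [9, 11, 12], [13, 6, 8], [13, 7, 11], [13, 4, 8], [0, 12, 8], [13, 2, 13], [6, 3, 4]]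
def close9 : List (List ℕ) := [[9, 13, 13], [5, 11, 13], [10, 13, 9], [9, 13, 13], [8, 11, 8], [12, 9, 12], [5, 13, 1], [9, 13, 13], [13, 12, 12], [12, 11, 11], [5, 13, 13], [5, 12, 12], [9, 11, 13], [13, 12, 10], [8, 13, 13], [12, 12, 11], [9, 0, 11], [14, 11, 0], [1, 7, 6], [14, 2, 1], [5, 8, 10], [9, 9, 14], [13, 10, 11], [8, 10, 11], [5, 10, 12], [13, 11, 13], [9, 11, 12], [7, 14, 14], [13, 14, 14], [6, 14, 14], [9, 3, 0], [10, 0, 14]]
def close10 : List (List ℕ) := [[4, 14, 14], [13, 14, 14], [7, 14, 14], [14, 14, 1], [14, 14, 14], [8, 5, 11], [12, 13, 14], [8, 14, 5], [9, 14, 14], [12, 10, 12], [10, 0, 3], [10, 1, 8], [10, 0, 6], [14, 2, 1], [10, 14, 14], [14, 13, 14], [10, 14, 14], [11, 14, 3], [6, 13, 11], [1, 5, 10], [8, 10, 13], [8, 7, 5], [12, 6, 7], [6, 7, 13], [4, 11, 10], [6, 12, 14], [11, 1, 7], [13, 3, 12], [11, 4, 3], [12, 14, 14], [14, 14, 1], [14, 10, 11]]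
def close11 : List (List ℕ) := [[10, 14, 14], [11, 15, 7], [11, 15, 14], [14, 14, 0], [14, 14, 10], [11, 1, 15], [12, 14, 12], [10, 15, 3], [11, 1, 14], [11, 0, 14], [15, 7, 1], [1, 10, 9], [7, 8, 11], [15, 9, 5], [7, 13, 9], [2, 12, 13], [2, 15, 13], [0, 2, 2], [2, 11, 8], [10, 15, 14], [9, 10, 11], [11, 5, 6], [11, 0, 14], [13, 9, 1], [10, 13, 15], [11, 15, 0], [12, 0, 8], [5, 9, 13], [14, 13, 10], [10, 15, 7], [13, 3, 14], [12, 14, 13]]
def close12 : List (List ℕ) := [[9, 8, 15], [12, 15, 3], [12, 8, 7], [13, 14, 15], [12, 14, 14], [12, 12, 15], [7, 13, 15], [11, 15, 7], [10, 3, 4], [13, 1, 2], [10, 7, 1], [10, 15, 9], [13, 4, 15], [12, 15, 14], [10, 15, 1], [14, 6, 4], [0, 4, 7], [14, 3, 3], [15, 1, 9], [1, 4, 4], [5, 13, 9], [15, 4, 11], [5, 10, 14], [9, 11, 15], [2, 14, 12], [15, 15, 1], [2, 12, 12], [1, 12, 7], [9, 14, 14], [13, 13, 13], [14, 0, 12], [0, 10, 6]]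
def close13 : List (List ℕ) := [[13, 14, 12], [5, 13, 15], [12, 15, 0], [2, 10, 10], [11, 11, 13], [5, 15, 3], [13, 14, 14], [11, 13, 13], [10, 13, 13], [13, 1, 13], [14, 13, 1], [8, 10, 10], [13, 3, 0], [14, 7, 15], [11, 15, 15], [14, 4, 1], [15, 13, 2], [1, 4, 1], [3, 11, 6], [13, 0, 14], [12, 13, 3], [13, 0, 12], [10, 15, 13], [12, 15, 12], [0, 7, 15], [12, 15, 7], [11, 12, 12], [14, 15, 15], [9, 15, 15], [15, 3, 4], [10, 15, 13], [14, 8, 15]]
def close14 : List (List ℕ) := [[15, 12, 2], [7, 6, 8], [13, 12, 0], [11, 14, 11], [15, 6, 14], [0, 9, 2], [0, 0, 12], [13, 11, 15], [11, 12, 15], [15, 8, 13], [8, 9, 7], [15, 3, 11], [14, 12, 15], [13, 14, 15], [14, 2, 7], [0, 11, 4], [1, 1, 9], [13, 11, 0], [10, 14, 15], [15, 0, 14], [14, 11, 0], [15, 1, 1], [11, 7, 0], [15, 0, 7], [0, 13, 7], [3, 3, 11], [14, 2, 8], [15, 13, 0], [14, 3, 3], [14, 6, 3], [1, 14, 11], [7, 6, 13]]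
def close15 : List (List ℕ) := [[14, 4, 11], [14, 15, 1], [15, 5, 1], [14, 8, 7], [15, 0, 0], [0, 6, 6], [9, 14, 15], [9, 12, 12], [12, 15, 12], [15, 7, 6], [15, 9, 0], [14, 4, 9], [15, 7, 8], [14, 0, 3], [15, 1, 15], [14, 8, 4], [15, 1, 15], [13, 14, 0], [3, 2, 13], [12, 8, 14], [1, 0, 2], [14, 7, 6], [15, 3, 15], [15, 12, 8]]
def par0 : List (ℕ × ℕ) := [(0, 0), (0, 1), (0, 2), (1, 0), (1, 1), (1, 2), (2, 0), (2, 1), (2, 2), (3, 0), (3, 1), (3, 2), (4, 0), (4, 1), (4, 2), (5, 0), (5, 1), (5, 2), (6, 0), (6, 1), (6, 2), (7, 0), (7, 1), (7, 2), (8, 0), (8, 1), (8, 2), (9, 0), (9, 1), (9, 2), (10, 0), (10, 1)]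
def par1 : List (ℕ × ℕ) := [(10, 2), (11, 1), (11, 2), (12, 0), (12, 1), (12, 2), (13, 0), (13, 1), (13, 2), (14, 0), (14, 1), (14, 2), (15, 0), (15, 1), (15, 2), (16, 0), (16, 1), (16, 2), (17, 0), (17, 1), (18, 0), (18, 1), (18, 2), (19, 0), (19, 1), (20, 1), (20, 2), (21, 0), (21, 1), (21, 2), (22, 0), (22, 2)]
def par2 : List (ℕ × ℕ) := [(23, 1), (23, 2), (24, 0), (24, 1), (25, 0), (25, 1), (25, 2), (26, 1), (26, 2), (27, 0), (27, 1), (27, 2), (28, 0), (28, 1), (28, 2), (29, 1), (29, 2), (30, 0), (30, 1), (30, 2), (31, 0), (31, 1), (31, 2), (32, 0), (32, 1), (32, 2), (33, 1), (33, 2), (34, 0), (34, 1), (34, 2), (35, 0)]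
def par3 : List (ℕ × ℕ) := [(35, 1), (35, 2), (36, 0), (36, 2), (37, 1), (37, 2), (38, 1), (38, 2), (39, 0), (39, 1), (39, 2), (40, 0), (40, 1), (40, 2), (41, 0), (41, 1), (41, 2), (42, 0), (42, 2), (43, 0), (43, 1), (44, 0), (44, 1), (45, 0), (46, 1), (46, 2), (47, 0), (47, 1), (47, 2), (48, 0), (48, 2), (49, 1)]
def par4 : List (ℕ × ℕ) := [(50, 1), (51, 0), (51, 2), (52, 1), (52, 2), (53, 0), (53, 2), (54, 1), (54, 2), (55, 0), (55, 1), (55, 2), (56, 0), (56, 2), (57, 0), (57, 2), (58, 1), (58, 2), (59, 0), (59, 1), (59, 2), (60, 0), (60, 2), (61, 1), (61, 2), (62, 1), (62, 2), (63, 0), (63, 2), (64, 0), (64, 2), (65, 1)]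
def par5 : List (ℕ × ℕ) := [(66, 2), (68, 1), (68, 2), (69, 0), (69, 2), (70, 1), (70, 2), (71, 0), (71, 1), (72, 1), (72, 2), (73, 0), (73, 1), (73, 2), (74, 0), (74, 1), (74, 2), (75, 1), (75, 2), (76, 1), (76, 2), (77, 1), (77, 2), (78, 0), (78, 1), (79, 1), (79, 2), (80, 1), (80, 2), (81, 1), (81, 2), (82, 0)]
def par6 : List (ℕ × ℕ) := [(82, 2), (83, 1), (83, 2), (84, 1), (84, 2), (85, 0), (85, 1), (85, 2), (86, 0), (86, 2), (87, 0), (87, 1), (88, 0), (88, 1), (89, 0), (91, 1), (92, 0), (92, 2), (93, 0), (93, 2), (94, 1), (94, 2), (95, 0), (95, 2), (96, 0), (96, 1), (97, 1), (97, 2), (98, 0), (98, 1), (98, 2), (99, 0)]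
def par7 : List (ℕ × ℕ) := [(100, 1), (101, 1), (101, 2), (102, 0), (102, 1), (102, 2), (103, 1), (103, 2), (104, 1), (105, 0), (105, 1), (106, 0), (107, 0), (107, 1), (107, 2), (108, 0), (109, 1), (110, 0), (110, 1), (111, 0), (112, 1), (112, 2), (113, 0), (113, 1), (113, 2), (114, 0), (114, 2), (115, 1), (116, 0), (116, 2), (118, 0), (119, 1)]
def par8 : List (ℕ × ℕ) := [(119, 2), (120, 0), (121, 1), (121, 2), (122, 0), (122, 1), (122, 2), (124, 1), (125, 1), (125, 2), (126, 0), (127, 0), (127, 2), (129, 1), (129, 2), (130, 0), (130, 2), (131, 1), (132, 2), (133, 0), (136, 1), (136, 2), (137, 2), (138, 0), (140, 2), (141, 0), (141, 2), (142, 0), (142, 1), (143, 0), (143, 1), (145, 1)]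
def par9 : List (ℕ × ℕ) := [(145, 2), (146, 0), (146, 2), (147, 0), (147, 1), (148, 2), (149, 1), (149, 2), (150, 0), (151, 1), (152, 2), (153, 1), (153, 2), (154, 1), (154, 2), (155, 1), (156, 0), (157, 0), (158, 0), (159, 0), (160, 1), (160, 2), (161, 1), (161, 2), (162, 2), (163, 1), (166, 1), (170, 2), (171, 0), (171, 1), (171, 2), (172, 0)]
def par10 : List (ℕ × ℕ) := [(172, 1), (172, 2), (173, 1), (174, 2), (175, 1), (175, 2), (176, 0), (177, 1), (177, 2), (178, 1), (178, 2), (179, 1), (179, 2), (180, 1), (180, 2), (181, 1), (181, 2), (182, 2), (183, 0), (184, 0), (184, 1), (185, 0), (186, 1), (187, 0), (187, 2), (188, 1), (188, 2), (189, 2), (190, 1), (190, 2), (191, 0), (191, 1)]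
def par11 : List (ℕ × ℕ) := [(191, 2), (194, 1), (194, 2), (195, 0), (195, 1), (195, 2), (196, 1), (196, 2), (197, 1), (198, 0), (198, 1), (199, 1), (200, 0), (200, 2), (201, 2), (202, 1), (203, 0), (205, 0), (208, 1), (208, 2), (211, 0), (213, 1), (213, 2), (214, 0), (214, 1), (214, 2), (215, 0), (215, 1), (216, 1), (216, 2), (219, 1), (219, 2)]
def par12 : List (ℕ × ℕ) := [(220, 1), (222, 1), (222, 2), (223, 1), (223, 2), (225, 1), (226, 1), (229, 1), (229, 2), (230, 2), (231, 1), (231, 2), (232, 1), (234, 0), (234, 1), (235, 0), (237, 0), (240, 0), (242, 0), (243, 2), (244, 0), (245, 2), (249, 1), (249, 2), (250, 0), (251, 2), (253, 0), (256, 1), (256, 2), (258, 0), (258, 2), (259, 1)]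
def par13 : List (ℕ × ℕ) := [(259, 2), (260, 2), (261, 0), (261, 1), (262, 2), (263, 1), (263, 2), (265, 2), (266, 1), (267, 0), (276, 0), (277, 1), (277, 2), (279, 1), (282, 0), (283, 0), (284, 0), (286, 0), (288, 1), (288, 2), (289, 2), (290, 1), (291, 1), (291, 2), (294, 1), (295, 1), (295, 2), (298, 1), (300, 2), (302, 1), (302, 2), (305, 0)]
def par14 : List (ℕ × ℕ) := [(307, 0), (309, 2), (315, 1), (315, 2), (316, 1), (316, 2), (317, 1), (317, 2), (319, 2), (320, 1), (320, 2), (322, 1), (322, 2), (323, 1), (324, 1), (324, 2), (327, 1), (328, 1), (333, 0), (334, 1), (334, 2), (335, 0), (335, 2), (336, 1), (336, 2), (337, 1), (349, 1), (349, 2), (350, 1), (352, 1), (352, 2), (353, 1)]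
def par15 : List (ℕ × ℕ) := [(354, 1), (357, 2), (359, 1), (362, 0), (365, 0), (368, 1), (371, 1), (376, 2), (377, 1), (381, 1), (385, 1), (390, 2), (391, 1), (395, 1), (398, 1), (417, 2), (418, 1), (430, 1), (430, 2), (432, 0), (441, 1), (446, 1), (456, 2)]

/-- The data. -/
def data : Data where
  deg := 14
  gens := [(2758393742122624562233606, 3065414451256552792023298), (3363220992845124356800582, 2772997763060825922494530), (3976761917079464625332416, 3967539679114090296664384)]
  elts := [chunk0, chunk1, chunk2, chunk3, chunk4, chunk5, chunk6, chunk7, chunk8, chunk9, chunk10, chunk11, chunk12, chunk13, chunk14, chunk15].flatten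
  chunks := [chunk0, chunk1, chunk2, chunk3, chunk4, chunk5, chunk6, chunk7, chunk8, chunk9, chunk10, chunk11, chunk12, chunk13, chunk14, chunk15]
  parents := [par0, par1, par2, par3, par4, par5, par6, par7, par8, par9, par10, par11, par12, par13, par14, par15].flatten
  ords := [ords0, ords1, ords2, ords3, ords4, ords5, ords6, ords7, ords8, ords9, ords10, ords11, ords12, ords13, ords14, ords15].flatten
  closeCert := [close0, close1, close2, close3, close4, close5, close6, close7, close8, close9, close10, close11, close12, close13, close14, close15].flatten

theorem data_ok : chkData data = true := by decide +kernel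

theorem vec : countVec data = [1, 22, 45, 64, 306, 7, 64, 432, 70, 63, 432, 112, 378, 112, 504, 504] := by decide +kernel

theorem solv_ok : chkSolv data [[], [[0, 0, 0, 0, 0, 0, 0, 0, 0, 0, 0, 0, 0, 0, 0, 0, 0, 0, 0, 0, 0, 0, 0, 0, 0, 0, 0, 0, 0, 0, 0]], [[1, 1, 1, 0, 1, 1, 1, 0, 0, 0, 0], [0, 1]]] = true := by decide +kernel

theorem realizes : Realizes Solv [1, 22, 45, 64, 306, 7, 64, 432, 70, 63, 432, 112, 378, 112, 504, 504] :=
  vec ▸ realizes_data data_ok (solvable_of_chk solv_ok)

end CfsgLib.OrderType.G21
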