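import Cfsg.Agent.Lib.OrderType.Products

/-! Data for one factor of the order type example. -/

set_option autoImplicit false
set_option maxRecDepth 100000

namespace CfsgLib.OrderType.G22

def chunk0 : List ℕ := [11693627636546543680, 9351183952280551618, 5947029980881100992, 5928470425410998275, 7008771527743905856, 9332624396810715202, 7099661485034451073, 11675037302266789954, 10468635417883975744, 4703478206747906179, 11656477273275510913, 10557585836663648257, 4775808615967883458, 4794398950247628994, 4775808615967891648, 8144782541418139651, 6992151037264273600, 9297444358259474626, 7045921891013898241, 4757248586977644547, 8163372875698151488, 9332624396810199232, 5909880091130986690, 5874700052580544513, 8252323301876302018, 11693627636546019520, 10450075862413348867, 8233732967596306561, 9297444358259998786, 9316004387250245635, 5874700052580012163, 5947029980881625152]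
def chunk1 : List ℕ := [8217143255926575235, 11621297227326558211, 10468635417883451584, 10503846242642829376, 8252323301876826178, 9388334315550552193, 10522405790714437696, 8163372875698143298, 9316004387249729665, 10503846242642821186, 8252323301876834368, 9388334315550544003, 5928470425410482305, 11675037302266265794, 4775808615968407618, 4740628570018947136, 7081101456044728384, 9351183952281075778, 7064481446483734657, 4722068541028175875, 8252323301876310208, 10487225752162939009, 8217143255927107585, 9332624396810191042, 5947029980881092802, 7081101456044204224, 11602706893046812675, 6992151037264789570, 9297444358260006976, 7045921891013365891, 11639857256317329472, 10522405790714429506]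
def chunk2 : List ℕ := [4722068541027659905, 11602706893046288515, 4740628570018422976, 5909880091131519040, 7008771527743897666, 11621297227326042241, 5928470425410474115, 11656477273276035073, 10522405790713905346, 5893259600652144643, 7099661485034442883, 7064481446484258817, 9388334315551076353, 6992151037264265410, 11602706893046820865, 10450075862412832897, 4740628570018938946, 4703478206748430339, 11639857256317321282, 9404954806029660289, 5928470425411006465, 5839520006630801602, 10450075862412824707, 8163372875697619138, 11639857256316805312, 10557585836663640067, 5909880091130994880, 7008771527743373506, 11621297227326566401, 7045921891013890051, 9404954806029652099, 8179962587367342274]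
def chunk3 : List ℕ := [11675037302266273984, 10487225752163454979, 7081101456044196034, 7099661485034967043, 6992151037264797760, 8163372875697627328, 11639857256316797122, 7008771527743381696, 7081101456044720194, 11656477273276026883, 10557585836663115907, 4775808615968415808, 9332624396810723392, 5909880091131510850, 5874700052580020353, 10503846242642305216, 10468635417883443394, 8179962587367350464, 9404954806030176259, 4740628570018414786, 4794398950247637184, 8233732967596822531, 7099661485034975233, 4757248586977120387, 8179962587367874624, 8144782541418147841, 11621297227326034051, 7064481446484250627, 7045921891013374081, 11675037302266798144, 10468635417883967554, 4703478206747914369]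
def chunk4 : List ℕ := [4794398950248161344, 8233732967596298371, 5893259600652152833, 9351183952280559808, 4703478206748438529, 5839520006630809792, 10487225752163463169, 8144782541417615491, 9351183952281083968, 5893259600651628673, 10522405790713913536, 5839520006631333952, 10557585836663124097, 9316004387249721475, 5874700052580536323, 4757248586977652737, 4722068541027651715, 8217143255926583425, 11656477273275502723, 9404954806030184449, 8233732967596830721, 9297444358259482816, 4757248586977128577, 11602706893046296705, 5893259600651620483, 8144782541417623681, 4722068541028184065, 10503846242642297026, 4794398950248153154, 8217143255927099395, 5947029980881616962, 5839520006631325762]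
def chunk5 : List ℕ := [9388334315551068163, 11693627636546535490, 9316004387250253825, 8179962587367866434, 11693627636546011330, 10450075862413357057, 10487225752162930819, 7064481446483726467]
def ords0 : List OrdCert := [(1, [true], []),
  (14, [false, true, true, true], [(7, [true, true, true]), (2, [false, true])]),
  (6, [false, true, true], [(3, [true, true]), (2, [false, true])]),
  (12, [false, false, true, true], [(6, [false, true, true]), (4, [false, false, true])]),
  (7, [true, true, true], [(1, [true])]),
  (6, [false, true, true], [(3, [true, true]), (2, [false, true])]),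
  (12, [false, false, true, true], [(6, [false, true, true]), (4, [false, false, true])]),
  (6, [false, true, true], [(3, [true, true]), (2, [false, true])]),
  (3, [true, true], [(1, [true])]),
  (2, [false, true], [(1, [true])]),
  (12, [false, false, true, true], [(6, [false, true, true]), (4, [false, false, true])]),
  (2, [false, true], [(1, [true])]),
  (6, [false, true, true], [(3, [true, true]), (2, [false, true])]),
  (14, [false, true, true, true], [(7, [true, true, true]), (2, [false, true])]),
  (6, [false, true, true], [(3, [true, true]), (2, [false, true])]),
  (12, [false, false, true, true], [(6, [false, true, true]), (4, [false, false, true])]),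
  (6, [false, true, true], [(3, [true, true]), (2, [false, true])]),
  (6, [false, true, true], [(3, [true, true]), (2, [false, true])]),
  (2, [false, true], [(1, [true])]),
  (12, [false, false, true, true], [(6, [false, true, true]), (4, [false, false, true])]),
  (3, [true, true], [(1, [true])]),
  (6, [false, true, true], [(3, [true, true]), (2, [false, true])]),
  (6, [false, true, true], [(3, [true, true]), (2, [false, true])]),
  (2, [false, true], [(1, [true])]),
  (6, [false, true, true], [(3, [true, true]), (2, [false, true])]),
  (2, [false, true], [(1, [true])]),
  (12, [false, false, true, true], [(6, [false, true, true]), (4, [false, false, true])]),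
  (12, [false, false, true, true], [(6, [false, true, true]), (4, [false, false, true])]),
  (6, [false, true, true], [(3, [true, true]), (2, [false, true])]),
  (12, [false, false, true, true], [(6, [false, true, true]), (4, [false, false, true])]),
  (2, [false, true], [(1, [true])]),
  (3, [true, true], [(1, [true])])]
def ords1 : List OrdCert := [(2, [false, true], [(1, [true])]),
  (12, [false, false, true, true], [(6, [false, true, true]), (4, [false, false, true])]),
  (6, [false, true, true], [(3, [true, true]), (2, [false, true])]),
  (3, [true, true], [(1, [true])]),
  (6, [false, true, true], [(3, [true, true]), (2, [false, true])]),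
  (4, [false, false, true], [(2, [false, true])]),
  (7, [true, true, true], [(1, [true])]),
  (6, [false, true, true], [(3, [true, true]), (2, [false, true])]),
  (12, [false, false, true, true], [(6, [false, true, true]), (4, [false, false, true])]),
  (6, [false, true, true], [(3, [true, true]), (2, [false, true])]),
  (3, [true, true], [(1, [true])]),
  (2, [false, true], [(1, [true])]),
  (12, [false, false, true, true], [(6, [false, true, true]), (4, [false, false, true])]),
  (6, [false, true, true], [(3, [true, true]), (2, [false, true])]),
  (6, [false, true, true], [(3, [true, true]), (2, [false, true])]),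
  (3, [true, true], [(1, [true])]),
  (3, [true, true], [(1, [true])]),
  (14, [false, true, true, true], [(7, [true, true, true]), (2, [false, true])]),
  (12, [false, false, true, true], [(6, [false, true, true]), (4, [false, false, true])]),
  (12, [false, false, true, true], [(6, [false, true, true]), (4, [false, false, true])]),
  (6, [false, true, true], [(3, [true, true]), (2, [false, true])]),
  (12, [false, false, true, true], [(6, [false, true, true]), (4, [false, false, true])]),
  (2, [false, true], [(1, [true])]),
  (6, [false, true, true], [(3, [true, true]), (2, [false, true])]),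
  (6, [false, true, true], [(3, [true, true]), (2, [false, true])]),
  (6, [false, true, true], [(3, [true, true]), (2, [false, true])]),
  (4, [false, false, true], [(2, [false, true])]),
  (6, [false, true, true], [(3, [true, true]), (2, [false, true])]),
  (3, [true, true], [(1, [true])]),
  (2, [false, true], [(1, [true])]),
  (3, [true, true], [(1, [true])]),
  (14, [false, true, true, true], [(7, [true, true, true]), (2, [false, true])])]
def ords2 : List OrdCert := [(12, [false, false, true, true], [(6, [false, true, true]), (4, [false, false, true])]),
  (2, [false, true], [(1, [true])]),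
  (6, [false, true, true], [(3, [true, true]), (2, [false, true])]),
  (3, [true, true], [(1, [true])]),
  (14, [false, true, true, true], [(7, [true, true, true]), (2, [false, true])]),
  (12, [false, false, true, true], [(6, [false, true, true]), (4, [false, false, true])]),
  (6, [false, true, true], [(3, [true, true]), (2, [false, true])]),
  (6, [false, true, true], [(3, [true, true]), (2, [false, true])]),
  (14, [false, true, true, true], [(7, [true, true, true]), (2, [false, true])]),
  (12, [false, false, true, true], [(6, [false, true, true]), (4, [false, false, true])]),
  (6, [false, true, true], [(3, [true, true]), (2, [false, true])]),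
  (6, [false, true, true], [(3, [true, true]), (2, [false, true])]),
  (2, [false, true], [(1, [true])]),
  (6, [false, true, true], [(3, [true, true]), (2, [false, true])]),
  (2, [false, true], [(1, [true])]),
  (12, [false, false, true, true], [(6, [false, true, true]), (4, [false, false, true])]),
  (6, [false, true, true], [(3, [true, true]), (2, [false, true])]),
  (4, [false, false, true], [(2, [false, true])]),
  (6, [false, true, true], [(3, [true, true]), (2, [false, true])]),
  (12, [false, false, true, true], [(6, [false, true, true]), (4, [false, false, true])]),
  (6, [false, true, true], [(3, [true, true]), (2, [false, true])]),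
  (14, [false, true, true, true], [(7, [true, true, true]), (2, [false, true])]),
  (6, [false, true, true], [(3, [true, true]), (2, [false, true])]),
  (6, [false, true, true], [(3, [true, true]), (2, [false, true])]),
  (6, [false, true, true], [(3, [true, true]), (2, [false, true])]),
  (4, [false, false, true], [(2, [false, true])]),
  (6, [false, true, true], [(3, [true, true]), (2, [false, true])]),
  (14, [false, true, true, true], [(7, [true, true, true]), (2, [false, true])]),
  (6, [false, true, true], [(3, [true, true]), (2, [false, true])]),
  (4, [false, false, true], [(2, [false, true])]),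
  (6, [false, true, true], [(3, [true, true]), (2, [false, true])]),
  (14, [false, true, true, true], [(7, [true, true, true]), (2, [false, true])])]
def ords3 : List OrdCert := [(6, [false, true, true], [(3, [true, true]), (2, [false, true])]),
  (12, [false, false, true, true], [(6, [false, true, true]), (4, [false, false, true])]),
  (6, [false, true, true], [(3, [true, true]), (2, [false, true])]),
  (12, [false, false, true, true], [(6, [false, true, true]), (4, [false, false, true])]),
  (3, [true, true], [(1, [true])]),
  (6, [false, true, true], [(3, [true, true]), (2, [false, true])]),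
  (6, [false, true, true], [(3, [true, true]), (2, [false, true])]),
  (14, [false, true, true, true], [(7, [true, true, true]), (2, [false, true])]),
  (6, [false, true, true], [(3, [true, true]), (2, [false, true])]),
  (12, [false, false, true, true], [(6, [false, true, true]), (4, [false, false, true])]),
  (2, [false, true], [(1, [true])]),
  (3, [true, true], [(1, [true])]),
  (3, [true, true], [(1, [true])]),
  (6, [false, true, true], [(3, [true, true]), (2, [false, true])]),
  (4, [false, false, true], [(2, [false, true])]),
  (6, [false, true, true], [(3, [true, true]), (2, [false, true])]),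
  (6, [false, true, true], [(3, [true, true]), (2, [false, true])]),
  (14, [false, true, true, true], [(7, [true, true, true]), (2, [false, true])]),
  (12, [false, false, true, true], [(6, [false, true, true]), (4, [false, false, true])]),
  (6, [false, true, true], [(3, [true, true]), (2, [false, true])]),
  (14, [false, true, true, true], [(7, [true, true, true]), (2, [false, true])]),
  (12, [false, false, true, true], [(6, [false, true, true]), (4, [false, false, true])]),
  (6, [false, true, true], [(3, [true, true]), (2, [false, true])]),
  (6, [false, true, true], [(3, [true, true]), (2, [false, true])]),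
  (7, [true, true, true], [(1, [true])]),
  (6, [false, true, true], [(3, [true, true]), (2, [false, true])]),
  (6, [false, true, true], [(3, [true, true]), (2, [false, true])]),
  (12, [false, false, true, true], [(6, [false, true, true]), (4, [false, false, true])]),
  (4, [false, false, true], [(2, [false, true])]),
  (3, [true, true], [(1, [true])]),
  (6, [false, true, true], [(3, [true, true]), (2, [false, true])]),
  (4, [false, false, true], [(2, [false, true])])]
def ords4 : List OrdCert := [(7, [true, true, true], [(1, [true])]),
  (6, [false, true, true], [(3, [true, true]), (2, [false, true])]),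
  (6, [false, true, true], [(3, [true, true]), (2, [false, true])]),
  (14, [false, true, true, true], [(7, [true, true, true]), (2, [false, true])]),
  (2, [false, true], [(1, [true])]),
  (14, [false, true, true, true], [(7, [true, true, true]), (2, [false, true])]),
  (6, [false, true, true], [(3, [true, true]), (2, [false, true])]),
  (6, [false, true, true], [(3, [true, true]), (2, [false, true])]),
  (7, [true, true, true], [(1, [true])]),
  (12, [false, false, true, true], [(6, [false, true, true]), (4, [false, false, true])]),
  (14, [false, true, true, true], [(7, [true, true, true]), (2, [false, true])]),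
  (7, [true, true, true], [(1, [true])]),
  (4, [false, false, true], [(2, [false, true])]),
  (6, [false, true, true], [(3, [true, true]), (2, [false, true])]),
  (4, [false, false, true], [(2, [false, true])]),
  (6, [false, true, true], [(3, [true, true]), (2, [false, true])]),
  (6, [false, true, true], [(3, [true, true]), (2, [false, true])]),
  (4, [false, false, true], [(2, [false, true])]),
  (6, [false, true, true], [(3, [true, true]), (2, [false, true])]),
  (6, [false, true, true], [(3, [true, true]), (2, [false, true])]),
  (6, [false, true, true], [(3, [true, true]), (2, [false, true])]),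
  (6, [false, true, true], [(3, [true, true]), (2, [false, true])]),
  (12, [false, false, true, true], [(6, [false, true, true]), (4, [false, false, true])]),
  (4, [false, false, true], [(2, [false, true])]),
  (6, [false, true, true], [(3, [true, true]), (2, [false, true])]),
  (12, [false, false, true, true], [(6, [false, true, true]), (4, [false, false, true])]),
  (6, [false, true, true], [(3, [true, true]), (2, [false, true])]),
  (6, [false, true, true], [(3, [true, true]), (2, [false, true])]),
  (14, [false, true, true, true], [(7, [true, true, true]), (2, [false, true])]),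
  (4, [false, false, true], [(2, [false, true])]),
  (6, [false, true, true], [(3, [true, true]), (2, [false, true])]),
  (14, [false, true, true, true], [(7, [true, true, true]), (2, [false, true])])]
def ords5 : List OrdCert := [(4, [false, false, true], [(2, [false, true])]),
  (2, [false, true], [(1, [true])]),
  (6, [false, true, true], [(3, [true, true]), (2, [false, true])]),
  (14, [false, true, true, true], [(7, [true, true, true]), (2, [false, true])]),
  (2, [false, true], [(1, [true])]),
  (6, [false, true, true], [(3, [true, true]), (2, [false, true])]),
  (6, [false, true, true], [(3, [true, true]), (2, [false, true])]),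
  (6, [false, true, true], [(3, [true, true]), (2, [false, true])])]
def close0 : List (List ℕ) := [[0, 0, 0], [0, 0, 0], [0, 0, 0], [0, 0, 0], [0, 0, 0], [0, 0, 0], [0, 0, 0], [0, 0, 0], [0, 0, 0], [0, 0, 0], [0, 0, 0], [1, 1, 1], [1, 1, 1], [1, 1, 1], [1, 1, 1], [1, 0, 1], [1, 1, 1], [1, 1, 1], [0, 1, 1], [1, 1, 1], [1, 1, 1], [1, 1, 1], [1, 1, 2], [2, 0, 2], [2, 2, 2], [1, 0, 2], [0, 2, 2], [2, 2, 0], [1, 0, 2], [0, 2, 2], [2, 2, 2], [1, 1, 2]]
def close1 : List (List ℕ) := [[0, 1, 2], [2, 2, 2], [1, 0, 2], [2, 2, 2], [2, 2, 2], [2, 2, 1], [2, 3, 3], [0, 3, 2], [3, 1, 3], [3, 3, 0], [0, 3, 1], [0, 2, 3], [3, 3, 3], [3, 3, 3], [3, 0, 2], [3, 3, 3], [3, 3, 3], [3, 1, 3], [1, 3, 3], [2, 3, 0], [3, 0, 3], [0, 2, 1], [0, 3, 2], [3, 0, 3], [3, 3, 3], [2, 4, 4], [1, 4, 0], [0, 3, 1], [3, 4, 3], [4, 2, 1], [0, 4, 2], [3, 1, 4]]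
def close2 : List (List ℕ) := [[0, 4, 4], [2, 4, 3], [3, 3, 2], [3, 4, 1], [3, 0, 3], [3, 2, 4], [2, 4, 1], [4, 4, 0], [3, 0, 1], [2, 4, 0], [4, 3, 1], [4, 0, 3], [1, 3, 1], [3, 2, 4], [1, 2, 2], [3, 4, 1], [1, 2, 4], [4, 4, 0], [4, 2, 4], [3, 4, 0], [4, 2, 0], [0, 1, 4], [4, 0, 1], [0, 3, 4], [0, 4, 4], [4, 2, 3], [2, 1, 4], [4, 1, 4], [2, 0, 4], [3, 4, 0], [2, 1, 2], [4, 1, 0]]
def close3 : List (List ℕ) := [[0, 2, 0], [4, 2, 4], [1, 4, 0], [4, 4, 2], [0, 2, 4], [4, 1, 2], [1, 4, 4], [4, 3, 4], [2, 0, 4], [1, 0, 1], [1, 2, 3], [4, 1, 5], [2, 4, 2], [2, 2, 4], [1, 2, 1], [1, 1, 3], [1, 5, 2], [4, 3, 4], [1, 5, 2], [0, 5, 2], [1, 0, 4], [4, 3, 5], [3, 2, 3], [4, 4, 0], [2, 0, 3], [2, 2, 3], [4, 1, 4], [2, 4, 2], [2, 4, 1], [1, 2, 4], [1, 5, 5], [2, 4, 1]]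
def close4 : List (List ℕ) := [[2, 3, 0], [4, 0, 5], [3, 3, 3], [2, 3, 2], [3, 3, 4], [5, 1, 3], [4, 1, 3], [2, 3, 0], [2, 0, 3], [1, 5, 4], [5, 3, 5], [5, 3, 0], [4, 3, 0], [3, 1, 1], [4, 5, 3], [5, 4, 0], [5, 4, 1], [4, 5, 1], [5, 3, 4], [5, 0, 3], [4, 3, 0], [3, 4, 5], [3, 1, 3], [5, 4, 2], [2, 1, 4], [0, 1, 3], [2, 0, 4], [0, 2, 4], [4, 2, 5], [3, 2, 3], [3, 3, 4], [0, 4, 4]]
def close5 : List (List ℕ) := [[3, 4, 3], [4, 1, 2], [2, 5, 0], [4, 2, 2], [4, 4, 1], [4, 3, 4], [3, 4, 1], [4, 4, 5]]
def par0 : List (ℕ × ℕ) := [(0, 0), (0, 1), (0, 2), (1, 0), (1, 1), (1, 2), (2, 0), (2, 1), (2, 2), (3, 0), (3, 1), (3, 2), (4, 0), (4, 1), (4, 2), (5, 0), (5, 1), (5, 2), (6, 0), (6, 2), (7, 0), (7, 1), (7, 2), (8, 0), (8, 1), (8, 2), (9, 1), (9, 2), (10, 0), (10, 1), (10, 2), (11, 0)]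
def par1 : List (ℕ × ℕ) := [(11, 1), (11, 2), (12, 0), (12, 1), (12, 2), (13, 0), (13, 1), (13, 2), (14, 0), (14, 1), (14, 2), (15, 0), (15, 2), (16, 0), (16, 1), (17, 0), (17, 1), (17, 2), (18, 1), (18, 2), (19, 0), (19, 1), (19, 2), (20, 0), (20, 1), (20, 2), (21, 0), (21, 1), (21, 2), (22, 0), (22, 1), (22, 2)]
def par2 : List (ℕ × ℕ) := [(23, 0), (23, 2), (24, 0), (24, 1), (24, 2), (25, 2), (26, 1), (26, 2), (27, 0), (27, 1), (28, 2), (29, 1), (29, 2), (30, 0), (30, 1), (30, 2), (31, 2), (32, 2), (33, 0), (33, 1), (33, 2), (34, 2), (35, 0), (35, 1), (35, 2), (36, 0), (36, 1), (36, 2), (37, 0), (37, 1), (38, 0), (38, 1)]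
def par3 : List (ℕ × ℕ) := [(38, 2), (39, 1), (40, 0), (40, 2), (41, 0), (41, 1), (42, 1), (43, 2), (44, 0), (44, 1), (44, 2), (45, 0), (45, 1), (45, 2), (46, 0), (47, 0), (47, 1), (47, 2), (48, 0), (48, 1), (48, 2), (49, 2), (50, 1), (50, 2), (51, 1), (52, 2), (54, 1), (55, 2), (56, 0), (56, 1), (56, 2), (57, 1)]
def par4 : List (ℕ × ℕ) := [(57, 2), (58, 1), (60, 1), (61, 0), (62, 1), (63, 2), (64, 1), (64, 2), (65, 1), (67, 1), (69, 2), (70, 1), (71, 0), (71, 1), (74, 0), (75, 0), (77, 2), (79, 1), (80, 2), (81, 1), (82, 0), (85, 2), (87, 2), (88, 2), (91, 2), (93, 1), (97, 2), (98, 1), (100, 2), (101, 0), (102, 1), (107, 2)]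
def par5 : List (ℕ × ℕ) := [(112, 1), (114, 1), (115, 1), (117, 2), (126, 2), (137, 1), (145, 1)]

/-- The data. -/
def data : Data where
  deg := 11
  gens := [(9351183952280551618, 5839520006630801602), (5947029980881100992, 10468635417883451584), (5928470425410998275, 8233732967596306561)]
  elts := [chunk0, chunk1, chunk2, chunk3, chunk4, chunk5].flatten
  chunks := [chunk0, chunk1, chunk2, chunk3, chunk4, chunk5]
  parents := [par0, par1, par2, par3, par4, par5].flatten
  ords := [ords0, ords1, ords2, ords3, ords4, ords5].flatten
  closeCert := [close0, close1, close2, close3, close4, close5].flatten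

theorem data_ok : chkData data = true := by decide +kernel

theorem vec : countVec data = [1, 18, 15, 32, 102, 7, 32, 144, 42, 21, 144, 56, 126, 56, 168, 168] := by decide +kernel

theorem solv_ok : chkSolv data [[], [[0, 0, 0, 0, 0, 0, 0, 0, 0]], [[0, 0, 0], [1, 0, 0, 0]]] = true := by decide +kernel

theorem realizes : Realizes Solv [1, 18, 15, 32, 102, 7, 32, 144, 42, 21, 144, 56, 126, 56, 168, 168] :=
  vec ▸ realizes_data data_ok (solvable_of_chk solv_ok)

end CfsgLib.OrderType.G22
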