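import Cfsg.Agent.Lib.OrderType.Products

/-! Data for one factor of the order type example. -/

set_option autoImplicit false
set_option maxRecDepth 100000

namespace CfsgLib.OrderType.G26

def chunk0 : List ℕ := [417753473088, 212617675074, 206242844934, 3305640324, 140728881153, 2249216067, 143881683267, 137540686017, 414464622789, 274895495301, 70951633284, 141784539456, 413442244866, 278134002048, 72042434562, 277076008965, 75213570180, 210488266758, 207333904512, 70950859014, 350107480128, 347993022657, 275952197829, 275952972162, 74122801158, 211528720452, 210486976833, 68788179138, 345761661126, 343648002180, 277077033345, 73015767174]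
def chunk1 : List ℕ := [344705741184, 346820190465, 278132711493, 1142444163, 142824456579, 5419327746, 141785563206, 347993538627, 275953230147, 415555912002, 3305382150, 413441474565, 5420617860, 347993288832, 74123313348, 350107205763, 274896003459, 6476808513, 137540407557, 1141387653, 142826024964, 345762455556, 281405030529, 416696242179, 414465667329, 6477066309, 73016025285, 344704704708, 344706253059, 280347287619, 417752940738, 4313063622]
def chunk2 : List ℕ := [412351217733, 2248937796, 68787122502, 345763229952, 142825251072, 416696500290, 281404772544, 143882727492, 412351476033, 74121765123, 413441990976, 74122543488, 347993804802, 206242587012, 208374358017, 137540943939, 414465397059, 211528192134, 210487234944, 143882211585, 5420097606, 350107738113, 415556182272, 3306184770, 70952435904, 350106947778, 140727292293, 415555407876, 277075742790, 75212800320, 142825488582, 416695984320]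
def chunk3 : List ℕ := [68787380613, 416695726209, 72041373957, 346819158084, 211527418242, 210488524869, 207332843844, 140727550278, 344705482758, 280348070016, 417753214977, 4313329797, 4312555842, 343649292546, 212618977284, 206243389569, 138598170627, 417752682627, 208373027142, 212618203392, 141784273281, 345762693507, 281404514307, 1141645638, 281404256322, 211527688449, 346818887814, 278134260033, 208373285253, 274896269634, 274895229126, 413440954500]
def chunk4 : List ℕ := [5419581825, 2249474241, 143882457285, 138596594052, 277077299520, 75212280066, 207334162434, 6476288259, 1142186178, 72041890116, 412351729923, 415554879621, 206243905602, 137539891524, 275952455814, 3306700929, 73014993219, 346819662210, 278132969478, 68787921027, 207333359877, 343648256070, 2248421637, 6477320388, 141785829381, 70951919619, 4312289667, 212618707077, 138597368070, 414465151044, 73015251330, 72042692736]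
def chunk5 : List ℕ := [138597654720, 412350697668, 280347803841, 140728623168, 343648772481, 208374616128, 75213316101, 280347553794]
def ords0 : List OrdCert := [(1, [true], []),
  (7, [true, true, true], [(1, [true])]),
  (7, [true, true, true], [(1, [true])]),
  (7, [true, true, true], [(1, [true])]),
  (4, [false, false, true], [(2, [false, true])]),
  (4, [false, false, true], [(2, [false, true])]),
  (7, [true, true, true], [(1, [true])]),
  (7, [true, true, true], [(1, [true])]),
  (4, [false, false, true], [(2, [false, true])]),
  (4, [false, false, true], [(2, [false, true])]),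
  (4, [false, false, true], [(2, [false, true])]),
  (4, [false, false, true], [(2, [false, true])]),
  (4, [false, false, true], [(2, [false, true])]),
  (4, [false, false, true], [(2, [false, true])]),
  (7, [true, true, true], [(1, [true])]),
  (7, [true, true, true], [(1, [true])]),
  (7, [true, true, true], [(1, [true])]),
  (7, [true, true, true], [(1, [true])]),
  (3, [true, true], [(1, [true])]),
  (7, [true, true, true], [(1, [true])]),
  (2, [false, true], [(1, [true])]),
  (3, [true, true], [(1, [true])]),
  (7, [true, true, true], [(1, [true])]),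
  (7, [true, true, true], [(1, [true])]),
  (3, [true, true], [(1, [true])]),
  (2, [false, true], [(1, [true])]),
  (7, [true, true, true], [(1, [true])]),
  (3, [true, true], [(1, [true])]),
  (7, [true, true, true], [(1, [true])]),
  (7, [true, true, true], [(1, [true])]),
  (7, [true, true, true], [(1, [true])]),
  (7, [true, true, true], [(1, [true])])]
def ords1 : List OrdCert := [(3, [true, true], [(1, [true])]),
  (3, [true, true], [(1, [true])]),
  (3, [true, true], [(1, [true])]),
  (3, [true, true], [(1, [true])]),
  (4, [false, false, true], [(2, [false, true])]),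
  (3, [true, true], [(1, [true])]),
  (3, [true, true], [(1, [true])]),
  (3, [true, true], [(1, [true])]),
  (4, [false, false, true], [(2, [false, true])]),
  (4, [false, false, true], [(2, [false, true])]),
  (4, [false, false, true], [(2, [false, true])]),
  (3, [true, true], [(1, [true])]),
  (4, [false, false, true], [(2, [false, true])]),
  (3, [true, true], [(1, [true])]),
  (3, [true, true], [(1, [true])]),
  (4, [false, false, true], [(2, [false, true])]),
  (3, [true, true], [(1, [true])]),
  (4, [false, false, true], [(2, [false, true])]),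
  (4, [false, false, true], [(2, [false, true])]),
  (4, [false, false, true], [(2, [false, true])]),
  (3, [true, true], [(1, [true])]),
  (3, [true, true], [(1, [true])]),
  (3, [true, true], [(1, [true])]),
  (4, [false, false, true], [(2, [false, true])]),
  (3, [true, true], [(1, [true])]),
  (3, [true, true], [(1, [true])]),
  (3, [true, true], [(1, [true])]),
  (7, [true, true, true], [(1, [true])]),
  (7, [true, true, true], [(1, [true])]),
  (2, [false, true], [(1, [true])]),
  (2, [false, true], [(1, [true])]),
  (4, [false, false, true], [(2, [false, true])])]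
def ords2 : List OrdCert := [(2, [false, true], [(1, [true])]),
  (3, [true, true], [(1, [true])]),
  (4, [false, false, true], [(2, [false, true])]),
  (4, [false, false, true], [(2, [false, true])]),
  (2, [false, true], [(1, [true])]),
  (2, [false, true], [(1, [true])]),
  (3, [true, true], [(1, [true])]),
  (4, [false, false, true], [(2, [false, true])]),
  (3, [true, true], [(1, [true])]),
  (4, [false, false, true], [(2, [false, true])]),
  (2, [false, true], [(1, [true])]),
  (2, [false, true], [(1, [true])]),
  (3, [true, true], [(1, [true])]),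
  (3, [true, true], [(1, [true])]),
  (4, [false, false, true], [(2, [false, true])]),
  (3, [true, true], [(1, [true])]),
  (3, [true, true], [(1, [true])]),
  (4, [false, false, true], [(2, [false, true])]),
  (3, [true, true], [(1, [true])]),
  (3, [true, true], [(1, [true])]),
  (2, [false, true], [(1, [true])]),
  (2, [false, true], [(1, [true])]),
  (2, [false, true], [(1, [true])]),
  (3, [true, true], [(1, [true])]),
  (3, [true, true], [(1, [true])]),
  (4, [false, false, true], [(2, [false, true])]),
  (3, [true, true], [(1, [true])]),
  (3, [true, true], [(1, [true])]),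
  (4, [false, false, true], [(2, [false, true])]),
  (3, [true, true], [(1, [true])]),
  (3, [true, true], [(1, [true])]),
  (2, [false, true], [(1, [true])])]
def ords3 : List OrdCert := [(2, [false, true], [(1, [true])]),
  (4, [false, false, true], [(2, [false, true])]),
  (3, [true, true], [(1, [true])]),
  (4, [false, false, true], [(2, [false, true])]),
  (3, [true, true], [(1, [true])]),
  (4, [false, false, true], [(2, [false, true])]),
  (4, [false, false, true], [(2, [false, true])]),
  (3, [true, true], [(1, [true])]),
  (4, [false, false, true], [(2, [false, true])]),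
  (2, [false, true], [(1, [true])]),
  (2, [false, true], [(1, [true])]),
  (7, [true, true, true], [(1, [true])]),
  (3, [true, true], [(1, [true])]),
  (7, [true, true, true], [(1, [true])]),
  (3, [true, true], [(1, [true])]),
  (7, [true, true, true], [(1, [true])]),
  (7, [true, true, true], [(1, [true])]),
  (2, [false, true], [(1, [true])]),
  (3, [true, true], [(1, [true])]),
  (4, [false, false, true], [(2, [false, true])]),
  (7, [true, true, true], [(1, [true])]),
  (7, [true, true, true], [(1, [true])]),
  (3, [true, true], [(1, [true])]),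
  (2, [false, true], [(1, [true])]),
  (3, [true, true], [(1, [true])]),
  (3, [true, true], [(1, [true])]),
  (7, [true, true, true], [(1, [true])]),
  (7, [true, true, true], [(1, [true])]),
  (3, [true, true], [(1, [true])]),
  (7, [true, true, true], [(1, [true])]),
  (7, [true, true, true], [(1, [true])]),
  (3, [true, true], [(1, [true])])]
def ords4 : List OrdCert := [(3, [true, true], [(1, [true])]),
  (7, [true, true, true], [(1, [true])]),
  (7, [true, true, true], [(1, [true])]),
  (7, [true, true, true], [(1, [true])]),
  (3, [true, true], [(1, [true])]),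
  (7, [true, true, true], [(1, [true])]),
  (7, [true, true, true], [(1, [true])]),
  (7, [true, true, true], [(1, [true])]),
  (3, [true, true], [(1, [true])]),
  (7, [true, true, true], [(1, [true])]),
  (3, [true, true], [(1, [true])]),
  (3, [true, true], [(1, [true])]),
  (4, [false, false, true], [(2, [false, true])]),
  (7, [true, true, true], [(1, [true])]),
  (3, [true, true], [(1, [true])]),
  (7, [true, true, true], [(1, [true])]),
  (7, [true, true, true], [(1, [true])]),
  (7, [true, true, true], [(1, [true])]),
  (7, [true, true, true], [(1, [true])]),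
  (3, [true, true], [(1, [true])]),
  (7, [true, true, true], [(1, [true])]),
  (3, [true, true], [(1, [true])]),
  (7, [true, true, true], [(1, [true])]),
  (7, [true, true, true], [(1, [true])]),
  (7, [true, true, true], [(1, [true])]),
  (7, [true, true, true], [(1, [true])]),
  (7, [true, true, true], [(1, [true])]),
  (7, [true, true, true], [(1, [true])]),
  (3, [true, true], [(1, [true])]),
  (2, [false, true], [(1, [true])]),
  (4, [false, false, true], [(2, [false, true])]),
  (4, [false, false, true], [(2, [false, true])])]
def ords5 : List OrdCert := [(4, [false, false, true], [(2, [false, true])]),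
  (4, [false, false, true], [(2, [false, true])]),
  (4, [false, false, true], [(2, [false, true])]),
  (2, [false, true], [(1, [true])]),
  (4, [false, false, true], [(2, [false, true])]),
  (2, [false, true], [(1, [true])]),
  (4, [false, false, true], [(2, [false, true])]),
  (4, [false, false, true], [(2, [false, true])])]
def close0 : List (List ℕ) := [[0, 0], [0, 0], [0, 0], [0, 0], [0, 0], [0, 0], [0, 0], [0, 0], [0, 0], [0, 0], [0, 0], [0, 0], [0, 0], [0, 0], [0, 0], [0, 1], [1, 1], [1, 1], [1, 1], [1, 1], [1, 1], [1, 1], [0, 1], [1, 0], [1, 1], [1, 1], [1, 1], [1, 1], [1, 1], [1, 1], [1, 1], [1, 1]]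
def close1 : List (List ℕ) := [[1, 1], [2, 2], [2, 2], [2, 2], [2, 0], [2, 2], [1, 2], [2, 1], [2, 2], [2, 2], [2, 2], [2, 2], [2, 2], [0, 2], [2, 0], [2, 2], [2, 2], [2, 2], [2, 2], [2, 2], [1, 3], [3, 1], [3, 3], [0, 3], [3, 3], [3, 2], [3, 3], [3, 3], [0, 3], [2, 3], [3, 3], [3, 3]]
def close2 : List (List ℕ) := [[3, 3], [3, 1], [3, 3], [2, 3], [3, 2], [3, 3], [0, 3], [3, 3], [3, 3], [0, 3], [3, 0], [2, 3], [3, 4], [4, 4], [3, 4], [4, 4], [2, 4], [4, 2], [4, 2], [1, 4], [0, 4], [4, 0], [4, 3], [4, 1], [2, 4], [2, 4], [3, 2], [3, 3], [4, 1], [4, 4], [3, 4], [4, 2]]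
def close3 : List (List ℕ) := [[0, 2], [4, 0], [4, 4], [2, 4], [4, 0], [3, 2], [4, 4], [1, 4], [3, 4], [4, 4], [4, 2], [4, 0], [4, 3], [4, 1], [4, 2], [4, 2], [3, 4], [3, 4], [4, 3], [2, 3], [0, 1], [2, 4], [4, 4], [1, 1], [4, 1], [1, 4], [4, 0], [3, 1], [1, 5], [0, 2], [4, 1], [3, 3]]
def close4 : List (List ℕ) := [[4, 5], [4, 3], [4, 4], [5, 1], [4, 3], [3, 3], [1, 3], [5, 1], [1, 3], [5, 0], [5, 0], [0, 5], [2, 2], [0, 5], [2, 1], [1, 4], [1, 5], [5, 4], [4, 3], [2, 3], [2, 0], [2, 4], [1, 2], [0, 4], [4, 2], [1, 0], [5, 1], [1, 5], [1, 4], [0, 4], [1, 5], [3, 2]]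
def close5 : List (List ℕ) := [[5, 0], [2, 4], [5, 0], [3, 0], [0, 4], [3, 4], [3, 0], [0, 5]]
def par0 : List (ℕ × ℕ) := [(0, 0), (0, 1), (1, 0), (1, 1), (2, 0), (2, 1), (3, 0), (3, 1), (4, 0), (4, 1), (5, 0), (5, 1), (6, 0), (6, 1), (7, 0), (7, 1), (8, 0), (8, 1), (9, 0), (9, 1), (10, 0), (10, 1), (11, 0), (11, 1), (12, 0), (12, 1), (13, 0), (13, 1), (14, 0), (14, 1), (15, 0), (15, 1)]
def par1 : List (ℕ × ℕ) := [(16, 0), (16, 1), (17, 0), (17, 1), (18, 0), (18, 1), (19, 0), (19, 1), (20, 0), (20, 1), (21, 0), (21, 1), (22, 1), (23, 0), (24, 0), (24, 1), (25, 0), (25, 1), (26, 0), (26, 1), (27, 0), (27, 1), (28, 0), (29, 0), (29, 1), (30, 0), (30, 1), (31, 0), (31, 1), (32, 0), (32, 1), (33, 0)]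
def par2 : List (ℕ × ℕ) := [(33, 1), (34, 0), (34, 1), (35, 0), (35, 1), (36, 0), (37, 0), (37, 1), (38, 1), (39, 0), (40, 0), (40, 1), (41, 0), (41, 1), (42, 0), (42, 1), (43, 0), (43, 1), (44, 0), (45, 1), (46, 0), (47, 0), (47, 1), (48, 0), (48, 1), (49, 0), (49, 1), (50, 0), (50, 1), (51, 0), (51, 1), (52, 1)]
def par3 : List (ℕ × ℕ) := [(53, 0), (54, 0), (54, 1), (55, 1), (56, 0), (56, 1), (57, 0), (58, 0), (58, 1), (59, 0), (59, 1), (60, 1), (61, 1), (62, 0), (62, 1), (63, 0), (63, 1), (64, 0), (64, 1), (65, 0), (66, 0), (66, 1), (67, 1), (68, 0), (69, 1), (70, 1), (71, 0), (72, 0), (73, 1), (75, 1), (76, 0), (76, 1)]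
def par4 : List (ℕ × ℕ) := [(77, 0), (77, 1), (78, 1), (79, 0), (79, 1), (80, 1), (81, 0), (82, 0), (83, 1), (84, 1), (85, 0), (86, 0), (87, 0), (88, 1), (89, 1), (92, 0), (93, 0), (93, 1), (94, 1), (97, 0), (98, 0), (99, 1), (100, 0), (102, 1), (103, 1), (104, 1), (106, 0), (107, 0), (109, 0), (112, 1), (118, 0), (124, 1)]
def par5 : List (ℕ × ℕ) := [(128, 1), (131, 0), (135, 0), (137, 0), (138, 0), (141, 1), (144, 1)]

/-- The data. -/
def data : Data where
  deg := 7
  gens := [(212617675074, 344706253059), (206242844934, 4313329797)]
  elts := [chunk0, chunk1, chunk2, chunk3, chunk4, chunk5].flatten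
  chunks := [chunk0, chunk1, chunk2, chunk3, chunk4, chunk5]
  parents := [par0, par1, par2, par3, par4, par5].flatten
  ords := [ords0, ords1, ords2, ords3, ords4, ords5].flatten
  closeCert := [close0, close1, close2, close3, close4, close5].flatten

theorem data_ok : chkData data = true := by decide +kernel

theorem vec : countVec data = [1, 22, 57, 64, 78, 49, 64, 120, 70, 105, 120, 112, 126, 112, 168, 168] := by decide +kernel

def comCert : List (List ℕ × List ℕ × List ℕ × List ℕ) := [([0, 0], [1, 1, 1, 0, 1], [0, 0, 0, 0, 0], [1, 1, 0, 0, 1, 0, 0]), ([1, 1], [0, 1, 1, 0, 0], [1, 1, 1, 1, 1], [0, 0, 1, 1, 0, 1])]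

def vecv : List ℕ := [1, 22, 57, 64, 78, 49, 64, 120, 70, 105, 120, 112, 126, 112, 168, 168]

end CfsgLib.OrderType.G26
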