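import Cfsg.Agent.Lib.OrderType.Products

/-! Data for one factor of the order type example. -/

set_option autoImplicit false
set_option maxRecDepth 100000

namespace CfsgLib.OrderType.G5

def chunk0 : List ℕ := [417753473088, 414549033024, 74123329539, 416646189120, 73099911171, 70935662595, 5436088518, 2231648454, 4328804550, 211560710529, 210537292161, 208373043585]
def ords0 : List OrdCert := [(1, [true], []),
  (3, [true, true], [(1, [true])]),
  (4, [false, false, true], [(2, [false, true])]),
  (3, [true, true], [(1, [true])]),
  (4, [false, false, true], [(2, [false, true])]),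
  (4, [false, false, true], [(2, [false, true])]),
  (2, [false, true], [(1, [true])]),
  (6, [false, true, true], [(3, [true, true]), (2, [false, true])]),
  (6, [false, true, true], [(3, [true, true]), (2, [false, true])]),
  (4, [false, false, true], [(2, [false, true])]),
  (4, [false, false, true], [(2, [false, true])]),
  (4, [false, false, true], [(2, [false, true])])]
def close0 : List (List ℕ) := [[0, 0], [0, 0], [0, 0], [0, 0], [0, 0], [0, 0], [0, 0], [0, 0], [0, 0], [0, 0], [0, 0], [0, 0]]
def par0 : List (ℕ × ℕ) := [(0, 0), (0, 1), (1, 0), (1, 1), (2, 0), (2, 1), (4, 1), (5, 1), (6, 1), (7, 1), (8, 1)]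

/-- The data. -/
def data : Data where
  deg := 7
  gens := [(414549033024, 416646189120), (74123329539, 211560710529)]
  elts := [chunk0].flatten
  chunks := [chunk0]
  parents := [par0].flatten
  ords := [ords0].flatten
  closeCert := [close0].flatten

theorem data_ok : chkData data = true := by decide +kernel

theorem vec : countVec data = [1, 2, 3, 8, 6, 1, 8, 12, 2, 3, 12, 8, 6, 8, 12, 12] := by decide +kernel

theorem solv_ok : chkSolv data [[], [[0, 0]]] = true := by decide +kernel

theorem realizes : Realizes Solv [1, 2, 3, 8, 6, 1, 8, 12, 2, 3, 12, 8, 6, 8, 12, 12] :=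
  vec ▸ realizes_data data_ok (solvable_of_chk solv_ok)

end CfsgLib.OrderType.G5
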