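import Cfsg.Agent.Lib.OrderType.Products

/-! Data for one factor of the order type example. -/

set_option autoImplicit false
set_option maxRecDepth 100000

namespace CfsgLib.OrderType.G8

def chunk0 : List ℕ := [417753473088, 278132949381, 70918361472, 138514288899, 210538856514, 412334174469, 6527398017, 350040105156, 280347283587, 68821467330, 347943211014, 1108099398, 140728623105, 208322715972]
def ords0 : List OrdCert := [(1, [true], []),
  (7, [true, true, true], [(1, [true])]),
  (2, [false, true], [(1, [true])]),
  (7, [true, true, true], [(1, [true])]),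
  (2, [false, true], [(1, [true])]),
  (2, [false, true], [(1, [true])]),
  (7, [true, true, true], [(1, [true])]),
  (2, [false, true], [(1, [true])]),
  (2, [false, true], [(1, [true])]),
  (7, [true, true, true], [(1, [true])]),
  (7, [true, true, true], [(1, [true])]),
  (2, [false, true], [(1, [true])]),
  (2, [false, true], [(1, [true])]),
  (7, [true, true, true], [(1, [true])])]
def close0 : List (List ℕ) := [[0, 0], [0, 0], [0, 0], [0, 0], [0, 0], [0, 0], [0, 0], [0, 0], [0, 0], [0, 0], [0, 0], [0, 0], [0, 0], [0, 0]]
def par0 : List (ℕ × ℕ) := [(0, 0), (0, 1), (1, 0), (1, 1), (2, 0), (3, 0), (3, 1), (5, 0), (5, 1), (6, 0), (6, 1), (8, 0), (8, 1)]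

/-- The data. -/
def data : Data where
  deg := 7
  gens := [(278132949381, 68821467330), (70918361472, 70918361472)]
  elts := [chunk0].flatten
  chunks := [chunk0]
  parents := [par0].flatten
  ords := [ords0].flatten
  closeCert := [close0].flatten

theorem data_ok : chkData data = true := by decide +kernel

theorem vec : countVec data = [1, 8, 1, 8, 8, 7, 8, 8, 14, 7, 8, 14, 14, 14, 14, 14] := by decide +kernel

theorem solv_ok : chkSolv data [[], [[0, 0, 0, 0, 0, 0]]] = true := by decide +kernel

theorem realizes : Realizes Solv [1, 8, 1, 8, 8, 7, 8, 8, 14, 7, 8, 14, 14, 14, 14, 14] :=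
  vec ▸ realizes_data data_ok (solvable_of_chk solv_ok)

end CfsgLib.OrderType.G8
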