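import Cfsg.Agent.Lib.OrderType.Products

/-! Data for one factor of the order type example. -/

set_option autoImplicit false
set_option maxRecDepth 100000

namespace CfsgLib.OrderType.G9

def chunk0 : List ℕ := [417753473088, 278132949381, 276036083904, 138514288899, 345846317313, 143931752517, 346836975744, 6527398017, 415539138882, 206225821830, 75229561155, 4313063811, 416645402817, 207333892101, 70918361472, 347943211014, 277026713670, 74123325444, 137523630468, 210538856514, 5419327746, 280347283587, 140728623105, 412334174469, 212635750656, 208322715972, 350040105156, 142825488582, 1108099398, 344738247042, 414548508675, 274929819969]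
def chunk1 : List ℕ := [73015255173, 141834858816, 68821467330, 3322433604, 413442244740, 72024596742, 281337942018, 343632011331, 211527680385, 2216169669]
def ords0 : List OrdCert := [(1, [true], []),
  (7, [true, true, true], [(1, [true])]),
  (6, [false, true, true], [(3, [true, true]), (2, [false, true])]),
  (7, [true, true, true], [(1, [true])]),
  (6, [false, true, true], [(3, [true, true]), (2, [false, true])]),
  (6, [false, true, true], [(3, [true, true]), (2, [false, true])]),
  (3, [true, true], [(1, [true])]),
  (7, [true, true, true], [(1, [true])]),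
  (6, [false, true, true], [(3, [true, true]), (2, [false, true])]),
  (6, [false, true, true], [(3, [true, true]), (2, [false, true])]),
  (3, [true, true], [(1, [true])]),
  (6, [false, true, true], [(3, [true, true]), (2, [false, true])]),
  (3, [true, true], [(1, [true])]),
  (3, [true, true], [(1, [true])]),
  (2, [false, true], [(1, [true])]),
  (7, [true, true, true], [(1, [true])]),
  (3, [true, true], [(1, [true])]),
  (6, [false, true, true], [(3, [true, true]), (2, [false, true])]),
  (3, [true, true], [(1, [true])]),
  (2, [false, true], [(1, [true])]),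
  (3, [true, true], [(1, [true])]),
  (2, [false, true], [(1, [true])]),
  (2, [false, true], [(1, [true])]),
  (2, [false, true], [(1, [true])]),
  (3, [true, true], [(1, [true])]),
  (7, [true, true, true], [(1, [true])]),
  (2, [false, true], [(1, [true])]),
  (3, [true, true], [(1, [true])]),
  (2, [false, true], [(1, [true])]),
  (3, [true, true], [(1, [true])]),
  (3, [true, true], [(1, [true])]),
  (3, [true, true], [(1, [true])])]
def ords1 : List OrdCert := [(3, [true, true], [(1, [true])]),
  (6, [false, true, true], [(3, [true, true]), (2, [false, true])]),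
  (7, [true, true, true], [(1, [true])]),
  (3, [true, true], [(1, [true])]),
  (6, [false, true, true], [(3, [true, true]), (2, [false, true])]),
  (6, [false, true, true], [(3, [true, true]), (2, [false, true])]),
  (6, [false, true, true], [(3, [true, true]), (2, [false, true])]),
  (6, [false, true, true], [(3, [true, true]), (2, [false, true])]),
  (6, [false, true, true], [(3, [true, true]), (2, [false, true])]),
  (6, [false, true, true], [(3, [true, true]), (2, [false, true])])]
def close0 : List (List ℕ) := [[0, 0], [0, 0], [0, 0], [0, 0], [0, 0], [0, 0], [0, 0], [0, 0], [0, 0], [0, 0], [0, 0], [0, 0], [0, 0], [0, 0], [0, 0], [0, 0], [0, 0], [0, 0], [0, 0], [0, 0], [0, 0], [0, 0], [0, 0], [0, 0], [1, 1], [1, 0], [0, 1], [1, 1], [0, 1], [0, 1], [0, 1], [0, 1]]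
def close1 : List (List ℕ) := [[0, 1], [1, 0], [0, 0], [0, 1], [1, 0], [1, 0], [1, 0], [1, 1], [1, 0], [1, 0]]
def par0 : List (ℕ × ℕ) := [(0, 0), (0, 1), (1, 0), (1, 1), (2, 0), (2, 1), (3, 0), (3, 1), (4, 0), (4, 1), (5, 0), (5, 1), (6, 0), (6, 1), (7, 0), (8, 1), (9, 0), (9, 1), (10, 1), (11, 1), (12, 1), (13, 1), (14, 0), (14, 1), (15, 0), (16, 1), (19, 1), (20, 1), (21, 1), (22, 1), (23, 1), (24, 0)]
def par1 : List (ℕ × ℕ) := [(24, 1), (25, 0), (27, 0), (27, 1), (29, 1), (30, 1), (31, 1), (32, 1), (33, 0)]

/-- The data. -/
def data : Data where
  deg := 7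
  gens := [(278132949381, 68821467330), (276036083904, 141834858816)]
  elts := [chunk0, chunk1].flatten
  chunks := [chunk0, chunk1]
  parents := [par0, par1].flatten
  ords := [ords0, ords1].flatten
  closeCert := [close0, close1].flatten

theorem data_ok : chkData data = true := by decide +kernel

theorem vec : countVec data = [1, 8, 15, 8, 36, 7, 8, 36, 14, 21, 36, 14, 42, 14, 42, 42] := by decide +kernel

theorem solv_ok : chkSolv data [[], [[0, 0, 0]]] = true := by decide +kernel

theorem realizes : Realizes Solv [1, 8, 15, 8, 36, 7, 8, 36, 14, 21, 36, 14, 42, 14, 42, 42] :=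
  vec ▸ realizes_data data_ok (solvable_of_chk solv_ok)

end CfsgLib.OrderType.G9
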